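import Mathlib
import Cfsg.Agent.H81.Averaging

/-!
Three primes along a normal chain: two of them are adjacent in the prime graph.
-/

namespace Cfsg.Agent.H81

open Finset
open scoped IsMulCommutative

variable {G : Type*} [Group G] [Finite G]

/-- If `u` (order `q`) and the coset `h⟨u⟩` (all of prime order `r`) act on a normal abelian
`p`-group without a fixed point, something has order `p q` or `p r`. -/
theorem orderOf_mul_of_two_step {p q r : ℕ} (hp : p.Prime) (hq : q.Prime) (hr : r.Prime)
    (hpq : p ≠ q) (hpr : p ≠ r) (V : Subgroup G) [V.Normal] [IsMulCommutative V]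
    (hV : IsPGroup p V) (hne : V ≠ ⊥) (u h : G) (hu : orderOf u = q)
    (hnorm : h⁻¹ * u * h ∈ Subgroup.zpowers u)
    (hord : ∀ c ∈ Subgroup.zpowers u, (h * c) ^ r = 1) (hout : h ∉ Subgroup.zpowers u) :
    (∃ x : G, orderOf x = p * q) ∨ (∃ x : G, orderOf x = p * r) := by
  haveI : Fact p.Prime := ⟨hp⟩
  haveI : Fact r.Prime := ⟨hr⟩
  have hpfix : ∀ (g : G) (s : ℕ), s.Prime → p ≠ s → orderOf g = s → ∀ v : V, v ≠ 1 →
      MulAut.conjNormal g v = v → ∃ x : G, orderOf x = p * s := by
    intro g s hs hps hg v hv hfix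
    obtain ⟨k, hk⟩ := IsPGroup.iff_orderOf.mp hV v
    have hk0 : k ≠ 0 := fun h0 => hv (orderOf_eq_one_iff.mp (by rw [hk, h0, pow_zero]))
    have hcomm : Commute g (v : G) := by
      have := congrArg Subtype.val hfix
      rw [MulAut.conjNormal_apply, mul_inv_eq_iff_eq_mul] at this
      exact this
    have ho : orderOf ((v : G) ^ p ^ (k - 1)) = p := by
      rw [orderOf_pow_of_dvd (pow_ne_zero _ hp.ne_zero)]
      · rw [Subgroup.orderOf_coe, hk, Nat.pow_div (by omega) hp.pos, show k - (k - 1) = 1 by omega,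
          pow_one]
      · rw [Subgroup.orderOf_coe, hk]; exact pow_dvd_pow _ (by omega)
    exact exists_orderOf_eq_mul hp hs hps (hcomm.symm.pow_left _) ho hg
  have hordr : ∀ c ∈ Subgroup.zpowers u, orderOf (h * c) = r := fun c hc =>
    orderOf_eq_prime (hord c hc) fun e => hout (by
      rw [show h = c⁻¹ from eq_inv_of_mul_eq_one_left e]; exact inv_mem hc)
  by_cases hex : ∃ c ∈ Subgroup.zpowers u, ∃ v : V,
      ∏ i ∈ range r, (MulAut.conjNormal ((h * c) ^ i) v : V) ≠ 1
  · obtain ⟨c, hc, v, hv⟩ := hex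
    right
    refine hpfix (h * c) r hr hpr (hordr c hc) _ hv ?_
    have hshift : ∀ i : ℕ, MulAut.conjNormal (h * c) (MulAut.conjNormal ((h * c) ^ i) v : V) =
        MulAut.conjNormal ((h * c) ^ (i + 1)) v := fun i => by
      rw [← MulAut.mul_apply, ← map_mul, ← pow_succ']
    rw [map_prod]
    simp only [hshift]
    have h1 := prod_range_succ' (fun i => (MulAut.conjNormal ((h * c) ^ i) v : V)) r
    have h2 := prod_range_succ (fun i => (MulAut.conjNormal ((h * c) ^ i) v : V)) r
    simp only [hord c hc, pow_zero] at h1 h2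
    exact mul_right_cancel (h1.symm.trans h2)
  · push Not at hex
    have hQ : ∀ c ∈ Subgroup.zpowers u, h⁻¹ * c * h ∈ Subgroup.zpowers u := by
      rintro _ ⟨j, rfl⟩
      have := conj_zpow (i := j) (a := h⁻¹) (b := u)
      rw [inv_inv] at this
      simp only
      rw [← this]
      exact zpow_mem hnorm j
    have hinj : ∀ c ∈ Subgroup.zpowers u, ∀ d ∈ Subgroup.zpowers u, ∀ i, 0 < i → i < r →
        (h * c) ^ i = (h * d) ^ i → c = d := by
      intro c hc d hd i hi hir he
      have hcop : i.Coprime r :=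
        ((Nat.Prime.coprime_iff_not_dvd hr).mpr (Nat.not_dvd_of_pos_of_lt hi hir)).symm
      obtain ⟨m, -, hm⟩ := Nat.exists_mul_mod_eq_one_of_coprime hcop hr.one_lt
      have key : ∀ g : G, g ^ r = 1 → (g ^ i) ^ m = g := fun g hg => by
        rw [← pow_mul, pow_eq_pow_mod _ hg, hm, pow_one]
      have := congrArg (· ^ m) he
      simp only [key _ (hord c hc), key _ (hord d hd)] at this
      exact mul_left_cancel this
    have hcop : (Nat.card V).Coprime (Nat.card (Subgroup.zpowers u)) := by
      obtain ⟨k, hk⟩ := IsPGroup.iff_card.mp hV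
      rw [hk, Nat.card_zpowers, hu]
      exact Nat.Coprime.pow_left _ ((Nat.coprime_primes hp hq).mpr hpq)
    have htriv := trivial_of_norms_eq_one MulAut.conjNormal (Subgroup.zpowers u) h hQ r hr.pos
      hcop hinj hex u (Subgroup.mem_zpowers u)
    haveI : Nontrivial V := (Subgroup.nontrivial_iff_ne_bot V).mpr hne
    obtain ⟨v, hv⟩ := exists_ne (1 : V)
    exact Or.inl (hpfix u q hq hpq hu v hv (htriv v))

/-- The case of a normal `p`-subgroup: a prime of a normal subgroup and one of the quotient. -/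
theorem three_primes_normal_pgroup {p q r : ℕ} (hp : p.Prime) (hq : q.Prime) (hr : r.Prime)
    (hpq : p ≠ q) (hpr : p ≠ r) (hqr : q ≠ r) (V : Subgroup G) [V.Normal] [IsMulCommutative V]
    (hV : IsPGroup p V) (hne : V ≠ ⊥) (M : Subgroup G) [M.Normal] (hqM : q ∣ Nat.card M)
    (hrG : r ∣ M.index) :
    (∃ x : G, orderOf x = p * q) ∨ (∃ x : G, orderOf x = p * r) ∨ (∃ x : G, orderOf x = q * r) := by
  haveI : Fact q.Prime := ⟨hq⟩
  haveI : Fact r.Prime := ⟨hr⟩
  obtain ⟨Qs⟩ : Nonempty (Sylow q M) := inferInstance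
  set Q : Subgroup G := (Qs : Subgroup M).map M.subtype with hQdef
  have hQne : Q ≠ ⊥ := by
    rw [hQdef, Ne, Subgroup.map_eq_bot_iff_of_injective _ M.subtype_injective]
    exact Qs.ne_bot_of_dvd_card hqM
  have hQp : IsPGroup q Q := Qs.2.map _
  have htop : Subgroup.normalizer (Q : Set G) ⊔ M = ⊤ := Sylow.normalizer_sup_eq_top Qs
  obtain ⟨y, hyN, hy⟩ : ∃ y ∈ Subgroup.normalizer (Q : Set G), orderOf y = r := by
    have hmap : (Subgroup.normalizer (Q : Set G)).map (QuotientGroup.mk' M) = ⊤ := by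
      have := congrArg (Subgroup.map (QuotientGroup.mk' M)) htop
      rwa [Subgroup.map_sup, QuotientGroup.map_mk'_self, sup_bot_eq,
        Subgroup.map_top_of_surjective _ (QuotientGroup.mk'_surjective M)] at this
    have hdvd : r ∣ Nat.card (Subgroup.normalizer (Q : Set G)) := by
      refine dvd_trans ?_ (Subgroup.card_map_dvd _ (QuotientGroup.mk' M))
      rw [hmap, Subgroup.card_top, ← Subgroup.index_eq_card]
      exact hrG
    obtain ⟨y, hy⟩ := exists_prime_orderOf_dvd_card' r hdvd
    exact ⟨y, y.2, by rw [Subgroup.orderOf_coe]; exact hy⟩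
  set U := omegaCenter Q q with hU
  have hUne : U ≠ ⊥ := omegaCenter_ne_bot hQp hQne
  obtain ⟨u, huU, hu1⟩ := U.bot_or_exists_ne_one.resolve_left hUne
  have hu : orderOf u = q := orderOf_eq_prime huU.2.1 hu1
  by_cases hcyc : ∃ w ∈ U, w ∉ Subgroup.zpowers u
  · obtain ⟨w, hwU, hw⟩ := hcyc
    have hcomm : Commute w u := omegaCenter_comm hwU huU
    rcases orderOf_mul_of_two_step hp hq hq hpq hpq V hV hne u w hu
      (by rw [mul_assoc, ← hcomm.eq, inv_mul_cancel_left]; exact Subgroup.mem_zpowers u)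
      (fun c hc => by
        obtain ⟨j, rfl⟩ := hc
        simp only
        rw [(hcomm.zpow_right j).mul_pow, hwU.2.1, one_mul, ← zpow_natCast (u ^ j), ← zpow_mul,
          mul_comm, zpow_mul, zpow_natCast, huU.2.1, one_zpow]) hw with h | h
    · exact Or.inl h
    · exact Or.inl h
  · push Not at hcyc
    have hconj : y⁻¹ * u * y ∈ Subgroup.zpowers u := by
      have := (Subgroup.mem_normalizer_iff.mp
        (inv_mem (mem_normalizer_omegaCenter (p := q) hyN)) u).mp huU
      rw [inv_inv] at this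
      exact hcyc _ this
    by_cases hc : Commute y u
    · exact Or.inr (Or.inr (exists_orderOf_eq_mul hq hr hqr hc.symm hu hy))
    have hout : y ∉ Subgroup.zpowers u := fun hm => by
      obtain ⟨j, hj⟩ := hm
      exact hc (hj ▸ (Commute.refl u).zpow_left j)
    have hy1 : y ^ r = 1 := hy ▸ pow_orderOf_eq_one y
    have hord : ∀ c ∈ Subgroup.zpowers u, (y * c) ^ r = 1 := by
      intro c hcu
      have hQ : ∀ b ∈ Subgroup.zpowers u, y⁻¹ * b * y ∈ Subgroup.zpowers u := by
        rintro _ ⟨j, rfl⟩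
        have := conj_zpow (i := j) (a := y⁻¹) (b := u)
        rw [inv_inv] at this
        simp only
        rw [← this]
        exact zpow_mem hconj j
      have hmem : ∀ i : ℕ, (y ^ i)⁻¹ * (y * c) ^ i ∈ Subgroup.zpowers u := by
        intro i
        induction i with
        | zero => simp
        | succ i ih =>
          have := Subgroup.mul_mem _ (hQ _ ih) hcu
          convert this using 1
          rw [pow_succ, pow_succ]
          group
      have hd : (y * c) ^ r ∈ Subgroup.zpowers u := by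
        have := hmem r
        rwa [hy1, inv_one, one_mul] at this
      by_contra hne1
      obtain ⟨j, hj⟩ := hd
      simp only at hj
      have hgen : Subgroup.zpowers ((y * c) ^ r) = Subgroup.zpowers u := by
        refine Subgroup.eq_of_le_of_card_ge (by rw [Subgroup.zpowers_le]; exact ⟨j, hj⟩) ?_
        have h1 : Nat.card (Subgroup.zpowers ((y * c) ^ r)) ∣ q := by
          rw [← hu, ← Nat.card_zpowers]
          exact Subgroup.card_dvd_of_le (by rw [Subgroup.zpowers_le]; exact ⟨j, hj⟩)
        rcases (Nat.dvd_prime hq).mp h1 with h1 | h1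
        · rw [Nat.card_zpowers, orderOf_eq_one_iff] at h1; exact absurd h1 hne1
        · rw [h1, Nat.card_zpowers, hu]
      obtain ⟨i, hi⟩ : u ∈ Subgroup.zpowers ((y * c) ^ r) := hgen ▸ Subgroup.mem_zpowers u
      have hcu' : Commute (y * c) u := hi ▸ ((Commute.refl (y * c)).pow_right r).zpow_right i
      obtain ⟨k, hk⟩ := hcu
      have hcc : Commute c⁻¹ u := hk ▸ ((Commute.refl u).zpow_left k).inv_left
      apply hc
      have := hcu'.mul_left hcc
      rwa [mul_inv_cancel_right] at this
    rcases orderOf_mul_of_two_step hp hq hr hpq hpr V hV hne u y hu hconj hord hout with h | h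
    · exact Or.inl h
    · exact Or.inr (Or.inl h)

/-- Lucido-type lemma: primes of `K`, `M/K`, `G/M` are not pairwise non-adjacent. -/
theorem three_primes_chain (K M : Subgroup G) [K.Normal] [M.Normal] {p q r : ℕ}
    (hp : p.Prime) (hq : q.Prime) (hr : r.Prime) (hpq : p ≠ q) (hpr : p ≠ r) (hqr : q ≠ r)
    (hKM : K ≤ M) (hpK : p ∣ Nat.card K) (hqM : q ∣ K.relIndex M) (hrG : r ∣ M.index) :
    (∃ x : G, orderOf x = p * q) ∨ (∃ x : G, orderOf x = p * r) ∨ (∃ x : G, orderOf x = q * r) := by
  haveI : Fact p.Prime := ⟨hp⟩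
  obtain ⟨Ps⟩ : Nonempty (Sylow p K) := inferInstance
  set P : Subgroup G := (Ps : Subgroup K).map K.subtype with hPdef
  have hPne : P ≠ ⊥ := by
    rw [hPdef, Ne, Subgroup.map_eq_bot_iff_of_injective _ K.subtype_injective]
    exact Ps.ne_bot_of_dvd_card hpK
  have hPp : IsPGroup p P := Ps.2.map _
  set N : Subgroup G := Subgroup.normalizer (P : Set G) with hN
  have htop : N ⊔ K = ⊤ := Sylow.normalizer_sup_eq_top Ps
  have hVN : omegaCenter P p ≤ N := (omegaCenter_le P p).trans Subgroup.le_normalizer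
  haveI hVn : ((omegaCenter P p).subgroupOf N).Normal :=
    (Subgroup.normal_subgroupOf_iff_le_normalizer hVN).mpr fun x hx => mem_normalizer_omegaCenter hx
  haveI : IsMulCommutative ((omegaCenter P p).subgroupOf N) :=
    ⟨⟨fun a b => Subtype.ext (Subtype.ext (omegaCenter_comm a.2 b.2).eq)⟩⟩
  have hVp : IsPGroup p ((omegaCenter P p).subgroupOf N) :=
    (isPGroup_omegaCenter P p).of_equiv (Subgroup.subgroupOfEquivOfLe hVN).symm
  have hVne : (omegaCenter P p).subgroupOf N ≠ ⊥ := fun h => by
    rw [Subgroup.subgroupOf_eq_bot] at h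
    exact omegaCenter_ne_bot hPp hPne (h.eq_bot_of_le hVN)
  have hsurj : ∀ g : G, ∃ n ∈ N, ∃ k ∈ K, g = n * k := fun g => by
    have : g ∈ N ⊔ K := htop ▸ Subgroup.mem_top g
    obtain ⟨n, hn, k, hk, rfl⟩ := Subgroup.mem_sup_of_normal_right.mp this
    exact ⟨n, hn, k, hk, rfl⟩
  have hq' : q ∣ Nat.card (M.subgroupOf N) := by
    refine hqM.trans ?_
    have hmap : (M.subgroupOf N).map ((QuotientGroup.mk' K).comp N.subtype) =
        M.map (QuotientGroup.mk' K) := by
      ext x
      constructor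
      · rintro ⟨n, hn, rfl⟩; exact ⟨n, hn, rfl⟩
      · rintro ⟨g, hg, rfl⟩
        obtain ⟨n, hn, k, hk, rfl⟩ := hsurj g
        have hnM : n ∈ M := (Subgroup.mul_mem_cancel_right M (hKM hk)).mp hg
        refine ⟨⟨n, hn⟩, hnM, ?_⟩
        simp [QuotientGroup.eq, hk]
    have := Subgroup.card_map_dvd (M.subgroupOf N) ((QuotientGroup.mk' K).comp N.subtype)
    rw [hmap] at this
    refine dvd_trans (dvd_of_eq ?_) this
    conv_lhs => rw [← QuotientGroup.ker_mk' K]
    exact Subgroup.relIndex_ker (K := M) (QuotientGroup.mk' K)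
  have hr' : r ∣ (M.subgroupOf N).index := by
    refine hrG.trans (dvd_of_eq ?_)
    rw [Subgroup.index_eq_card]
    have hs : Function.Surjective ((QuotientGroup.mk' M).comp N.subtype) := by
      intro x
      obtain ⟨g, rfl⟩ := QuotientGroup.mk'_surjective M x
      obtain ⟨n, hn, k, hk, rfl⟩ := hsurj g
      refine ⟨⟨n, hn⟩, ?_⟩
      simp [QuotientGroup.eq, hKM hk]
    have hk : ((QuotientGroup.mk' M).comp N.subtype).ker = M.subgroupOf N := by
      ext x; simp [Subgroup.mem_subgroupOf, QuotientGroup.eq_one_iff]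
    rw [← hk, Subgroup.index_ker, MonoidHom.range_eq_top.mpr hs, Subgroup.card_top]
  have key := three_primes_normal_pgroup hp hq hr hpq hpr hqr ((omegaCenter P p).subgroupOf N) hVp
    hVne (M.subgroupOf N) hq' hr'
  have lift : ∀ s, (∃ x : N, orderOf x = s) → ∃ x : G, orderOf x = s :=
    fun s ⟨x, hx⟩ => ⟨x, by rw [Subgroup.orderOf_coe]; exact hx⟩
  exact key.imp (lift _) (Or.imp (lift _) (lift _))

end Cfsg.Agent.H81
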