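import Mathlib
import Cfsg.Agent.H81.ThreePrimes

/-!
Cocliques of size three in the prime graph and solvable normal subgroups.
-/

namespace Cfsg.Agent.H81

/-- In a solvable group two prime divisors are separated by a characteristic subgroup. -/
theorem exists_characteristic_separating {p q : ℕ} (hp : p.Prime) (hq : q.Prime) (hpq : p ≠ q) :
    ∀ (n : ℕ) {M : Type*} [Group M] [Finite M], Nat.card M = n → Group.IsSolvable M → p ∣ n → q ∣ n →
      ∃ K : Subgroup M, K.Characteristic ∧
        ((p ∣ Nat.card K ∧ q ∣ K.index) ∨ (q ∣ Nat.card K ∧ p ∣ K.index)) := by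
  intro n
  induction n using Nat.strong_induction_on with
  | h n ih =>
    intro M _ _ hn hsol hpn hqn
    subst hn
    haveI : Fact p.Prime := ⟨hp⟩
    haveI := hsol
    haveI : Nontrivial M := Finite.one_lt_card_iff_nontrivial.mp
      (lt_of_lt_of_le hp.one_lt (Nat.le_of_dvd Nat.card_pos hpn))
    set C := commutator M with hC
    have hchar : C.Characteristic := by
      rw [hC, commutator_def]; infer_instance
    have hlt : Nat.card C < Nat.card M := by
      refine lt_of_le_of_ne (Subgroup.card_le_card_group C) fun h => ?_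
      exact (Group.IsSolvable.commutator_lt_top_of_nontrivial M).ne (Subgroup.eq_top_of_card_eq _ h)
    have hmul := C.card_mul_index
    by_cases hpC : p ∣ Nat.card C
    · by_cases hqC : q ∣ Nat.card C
      · obtain ⟨K, hK, h⟩ := ih _ hlt rfl inferInstance hpC hqC
        refine ⟨K.map C.subtype, ?_, ?_⟩
        · haveI := hchar
          rw [Subgroup.characteristic_iff_map_eq]
          intro φ
          let ψ : C ≃* C := (φ.subgroupMap C).trans
            (MulEquiv.subgroupCongr (Subgroup.characteristic_iff_map_eq.mp hchar φ))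
          have hψ := Subgroup.characteristic_iff_map_eq.mp hK ψ
          conv_rhs => rw [← hψ]
          rw [Subgroup.map_map, Subgroup.map_map]
          rfl
        · have hcard : Nat.card (K.map C.subtype) = Nat.card K :=
            Subgroup.card_map_of_injective C.subtype_injective
          have hidx : (K.map C.subtype).index = K.index * C.index := Subgroup.index_map_subtype K
          rw [hcard, hidx]
          rcases h with ⟨h1, h2⟩ | ⟨h1, h2⟩
          · exact Or.inl ⟨h1, dvd_mul_of_dvd_left h2 _⟩
          · exact Or.inr ⟨h1, dvd_mul_of_dvd_left h2 _⟩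
      · refine ⟨C, hchar, Or.inl ⟨hpC, ?_⟩⟩
        exact (hq.dvd_mul.mp (hmul ▸ hqn)).resolve_left hqC
    · by_cases hqC : q ∣ Nat.card C
      · exact ⟨C, hchar, Or.inr ⟨hqC, (hp.dvd_mul.mp (hmul ▸ hpn)).resolve_left hpC⟩⟩
      · set a := (Nat.card M).factorization p + 1 with ha
        let K : Subgroup M :=
          (powMonoidHom (p ^ a) : Abelianization M →* Abelianization M).ker.comap Abelianization.of
        have hKC : ∀ g, g ∈ K ↔ g ^ p ^ a ∈ C := fun g => by
          simp only [K, Subgroup.mem_comap, MonoidHom.mem_ker, powMonoidHom_apply]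
          rw [← map_pow, ← MonoidHom.mem_ker, Abelianization.ker_of]
        refine ⟨K, ?_, Or.inl ⟨?_, ?_⟩⟩
        · rw [Subgroup.characteristic_iff_comap_eq]
          intro φ
          ext g
          rw [Subgroup.mem_comap, hKC, hKC]
          simp only [MulEquiv.toMonoidHom_eq_coe, MonoidHom.coe_coe, ← map_pow]
          conv_rhs => rw [← Subgroup.characteristic_iff_comap_eq.mp hchar φ]
          rfl
        · obtain ⟨g, hg⟩ := exists_prime_orderOf_dvd_card' p hpn
          have hgK : g ∈ K := by
            rw [hKC]
            have : g ^ p ^ a = 1 := by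
              rw [ha, pow_succ', pow_mul, ← hg, pow_orderOf_eq_one, one_pow]
            rw [this]; exact C.one_mem
          rw [← hg]
          exact Subgroup.orderOf_dvd_natCard K hgK
        · refine (hq.dvd_mul.mp (K.card_mul_index.symm ▸ hqn)).resolve_left fun hqK => ?_
          haveI : Fact q.Prime := ⟨hq⟩
          obtain ⟨g, hg⟩ := exists_prime_orderOf_dvd_card' q hqK
          rw [← Subgroup.orderOf_coe] at hg
          have h1 : (g : M) ^ p ^ a ∈ C := (hKC _).mp g.2
          have h2 : orderOf ((g : M) ^ p ^ a) = q := by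
            rw [Nat.Coprime.orderOf_pow, hg]
            rw [hg]
            exact Nat.Coprime.pow_right _ ((Nat.coprime_primes hq hp).mpr (Ne.symm hpq))
          exact hqC (h2 ▸ Subgroup.orderOf_dvd_natCard C h1)

variable {G : Type*} [Group G] [Finite G]

/-- Two primes of a solvable normal subgroup and a prime of its index: two are adjacent. -/
theorem adjacent_of_solvable_normal (K : Subgroup G) [K.Normal] (hK : Group.IsSolvable K)
    {p q r : ℕ} (hp : p.Prime) (hq : q.Prime) (hr : r.Prime) (hpq : p ≠ q) (hpr : p ≠ r)
    (hqr : q ≠ r) (hpK : p ∣ Nat.card K) (hqK : q ∣ Nat.card K) (hrG : r ∣ K.index) :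
    (∃ x : G, orderOf x = p * q) ∨ (∃ x : G, orderOf x = p * r) ∨ (∃ x : G, orderOf x = q * r) := by
  obtain ⟨C, hC, h⟩ := exists_characteristic_separating hp hq hpq _ rfl hK hpK hqK
  haveI := hC
  haveI : (C.map K.subtype).Normal := inferInstance
  have hcard : Nat.card (C.map K.subtype) = Nat.card C :=
    Subgroup.card_map_of_injective K.subtype_injective
  have hrel : (C.map K.subtype).relIndex K = C.index := by
    rw [Subgroup.relIndex, Subgroup.subgroupOf,
      Subgroup.comap_map_eq_self_of_injective K.subtype_injective]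
  rcases h with ⟨h1, h2⟩ | ⟨h1, h2⟩
  · exact three_primes_chain _ K hp hq hr hpq hpr hqr (Subgroup.map_subtype_le C)
      (hcard ▸ h1) (hrel ▸ h2) hrG
  · rcases three_primes_chain _ K hq hp hr (Ne.symm hpq) hqr hpr (Subgroup.map_subtype_le C)
      (hcard ▸ h1) (hrel ▸ h2) hrG with h | h | h
    · exact Or.inl (by simpa [mul_comm] using h)
    · exact Or.inr (Or.inr h)
    · exact Or.inr (Or.inl h)

/-- In a solvable group, of three prime divisors two are adjacent in the prime graph. -/
theorem adjacent_of_solvable {p q r : ℕ} (hp : p.Prime) (hq : q.Prime) (hr : r.Prime)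
    (hpq : p ≠ q) (hpr : p ≠ r) (hqr : q ≠ r) :
    ∀ (n : ℕ) {M : Type*} [Group M] [Finite M], Nat.card M = n → Group.IsSolvable M →
      p ∣ n → q ∣ n → r ∣ n →
      (∃ x : M, orderOf x = p * q) ∨ (∃ x : M, orderOf x = p * r) ∨ (∃ x : M, orderOf x = q * r) := by
  intro n
  induction n using Nat.strong_induction_on with
  | h n ih =>
    intro M _ _ hn hsol hpn hqn hrn
    subst hn
    haveI := hsol
    haveI : Fact p.Prime := ⟨hp⟩
    haveI : Nontrivial M := Finite.one_lt_card_iff_nontrivial.mp
      (lt_of_lt_of_le hp.one_lt (Nat.le_of_dvd Nat.card_pos hpn))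
    -- a maximal normal subgroup has prime index
    have hC : commutator M ≠ ⊤ := (Group.IsSolvable.commutator_lt_top_of_nontrivial M).ne
    obtain ⟨N, hN, hle⟩ := (eq_top_or_exists_le_coatom (commutator M)).resolve_left hC
    haveI : N.Normal := by
      constructor
      intro x hx g
      have := hle (Subgroup.commutator_mem_commutator (Subgroup.mem_top g) (Subgroup.mem_top x))
      have := N.mul_mem this hx
      rwa [commutatorElement_def, inv_mul_cancel_right] at this
    have hsimple : ∀ H : Subgroup (M ⧸ N), H = ⊥ ∨ H = ⊤ := fun H => by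
      have hinj := Subgroup.comap_injective (QuotientGroup.mk'_surjective N)
      rcases eq_or_lt_of_le (show N ≤ H.comap (QuotientGroup.mk' N) by
        intro x hx; simp [Subgroup.mem_comap, (QuotientGroup.eq_one_iff x).mpr hx]) with h | h
      · left
        apply hinj
        rw [← h, MonoidHom.comap_bot, QuotientGroup.ker_mk']
      · right
        apply hinj
        rw [hN.2 _ h, Subgroup.comap_top]
    have hidx : N.index.Prime := by
      have h1 : N.index ≠ 1 := by rw [Ne, Subgroup.index_eq_one]; exact hN.1
      rw [Subgroup.index_eq_card] at h1 ⊢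
      obtain ⟨s, hs, hsd⟩ := Nat.exists_prime_and_dvd h1
      haveI := Fact.mk hs
      obtain ⟨g, hg⟩ := exists_prime_orderOf_dvd_card' s hsd
      have hgne : Subgroup.zpowers g ≠ ⊥ := by
        rw [Ne, Subgroup.zpowers_eq_bot]; intro e; rw [e, orderOf_one] at hg; exact hs.ne_one hg.symm
      rw [← Subgroup.card_top (G := M ⧸ N), ← (hsimple _).resolve_left hgne, Nat.card_zpowers, hg]
      exact hs
    have hlt : Nat.card N < Nat.card M := by
      have := N.card_mul_index
      have h2 := hidx.two_le
      have h3 : 0 < Nat.card N := Nat.card_pos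
      nlinarith
    have hdvd : ∀ s : ℕ, s.Prime → s ∣ Nat.card M → s ≠ N.index → s ∣ Nat.card N := fun s hs hsM hne =>
      (hs.dvd_mul.mp (N.card_mul_index.symm ▸ hsM)).resolve_right fun h =>
        hne ((Nat.prime_dvd_prime_iff_eq hs hidx).mp h)
    by_cases h1 : p = N.index
    · rcases adjacent_of_solvable_normal N inferInstance hq hr hp hqr (Ne.symm hpq) (Ne.symm hpr)
        (hdvd q hq hqn (h1 ▸ Ne.symm hpq)) (hdvd r hr hrn (h1 ▸ Ne.symm hpr)) (h1 ▸ dvd_refl _) with h | h | h
      · exact Or.inr (Or.inr h)
      · exact Or.inl (by simpa [mul_comm] using h)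
      · exact Or.inr (Or.inl (by simpa [mul_comm] using h))
    by_cases h2 : q = N.index
    · rcases adjacent_of_solvable_normal N inferInstance hp hr hq hpr hpq (Ne.symm hqr)
        (hdvd p hp hpn h1) (hdvd r hr hrn (h2 ▸ Ne.symm hqr)) (h2 ▸ dvd_refl _) with h | h | h
      · exact Or.inr (Or.inl h)
      · exact Or.inl h
      · exact Or.inr (Or.inr (by simpa [mul_comm] using h))
    by_cases h3 : r = N.index
    · exact adjacent_of_solvable_normal N inferInstance hp hq hr hpq hpr hqr
        (hdvd p hp hpn h1) (hdvd q hq hqn h2) (h3 ▸ dvd_refl _)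
    have key := ih _ hlt (M := N) rfl inferInstance (hdvd p hp hpn h1) (hdvd q hq hqn h2) (hdvd r hr hrn h3)
    have lift : ∀ s, (∃ x : N, orderOf x = s) → ∃ x : M, orderOf x = s :=
      fun s ⟨x, hx⟩ => ⟨x, by rw [Subgroup.orderOf_coe]; exact hx⟩
    exact key.imp (lift _) (Or.imp (lift _) (lift _))

end Cfsg.Agent.H81
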