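import Mathlib

/-! Primitive groups with a suborbit of length three: the chain of involutions (Sims). -/

set_option autoImplicit false

namespace Cfsg.Agent.H81.Cubic

variable {G : Type*} [Group G]

/-- Conjugate of a subgroup. -/
def cg (g : G) (K : Subgroup G) : Subgroup G := K.map (MulAut.conj g).toMonoidHom

theorem mem_cg {g : G} {K : Subgroup G} {y : G} : y ∈ cg g K ↔ g⁻¹ * y * g ∈ K := by
  constructor
  · rintro ⟨k, hk, rfl⟩
    simpa [mul_assoc] using! hk
  · exact fun h => ⟨_, h, by simp [mul_assoc]⟩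

theorem cg_mul (g h : G) (K : Subgroup G) : cg (g * h) K = cg g (cg h K) := by
  ext y; simp only [mem_cg, mul_inv_rev]; group

theorem cg_one (K : Subgroup G) : cg 1 K = K := by
  ext y; simp [mem_cg]

theorem cg_of_mem {g : G} {K : Subgroup G} (hg : g ∈ K) : cg g K = K := by
  ext y
  rw [mem_cg]
  constructor
  · intro h
    have := K.mul_mem (K.mul_mem hg h) (K.inv_mem hg)
    simpa [mul_assoc] using this
  · exact fun h => K.mul_mem (K.mul_mem (K.inv_mem hg) h) hg

theorem cg_mono {g : G} {K L : Subgroup G} (h : K ≤ L) : cg g K ≤ cg g L := Subgroup.map_mono h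

theorem cg_inf (g : G) (K L : Subgroup G) : cg g (K ⊓ L) = cg g K ⊓ cg g L :=
  Subgroup.map_inf _ _ _ (MulAut.conj g).injective

theorem cg_sup (g : G) (K L : Subgroup G) : cg g (K ⊔ L) = cg g K ⊔ cg g L :=
  Subgroup.map_sup _ _ _

theorem card_cg (g : G) (K : Subgroup G) : Nat.card (cg g K) = Nat.card K :=
  (Nat.card_congr (K.equivMapOfInjective _ (MulAut.conj g).injective).toEquiv).symm

theorem relIndex_cg (g : G) (K L : Subgroup G) : (cg g K).relIndex (cg g L) = K.relIndex L :=
  Subgroup.relIndex_map_map_of_injective K L (MulAut.conj g).injective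

theorem mem_normalizer_of_cg {g : G} {K : Subgroup G} (h : cg g K = K) :
    g ∈ Subgroup.normalizer (K : Set G) := by
  rw [Subgroup.mem_normalizer_iff]
  intro y
  constructor
  · intro hy
    rw [← h, mem_cg]
    simpa [mul_assoc] using hy
  · intro hy
    rw [← h, mem_cg] at hy
    simpa [mul_assoc] using hy

theorem le_normalizer_of_card_two_mul [Finite G] {K L : Subgroup G} (hKL : K ≤ L)
    (h : 2 * Nat.card K = Nat.card L) : L ≤ Subgroup.normalizer (K : Set G) := by
  refine (Subgroup.normal_subgroupOf_iff_le_normalizer hKL).mp (Subgroup.normal_of_index_eq_two ?_)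
  have h1 := (K.subgroupOf L).index_mul_card
  rw [Nat.card_congr (Subgroup.subgroupOfEquivOfLe hKL).toEquiv, ← h] at h1
  exact Nat.eq_of_mul_eq_mul_right Nat.card_pos h1

theorem sup_eq_of_prime_index [Finite G] {K L M : Subgroup G} {p : ℕ} (hp : p.Prime)
    (hK : K ≤ M) (hL : L ≤ M) (h : p * Nat.card K = Nat.card M) (hLK : ¬ L ≤ K) : K ⊔ L = M := by
  have hle : K ⊔ L ≤ M := sup_le hK hL
  have h1 : Nat.card K ∣ Nat.card ↥(K ⊔ L) := Subgroup.card_dvd_of_le le_sup_left
  obtain ⟨t, ht⟩ := h1
  have h2 : Nat.card ↥(K ⊔ L) ∣ Nat.card M := Subgroup.card_dvd_of_le hle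
  rw [← h, ht, mul_comm p] at h2
  rcases (Nat.dvd_prime hp).1 (Nat.dvd_of_mul_dvd_mul_left Nat.card_pos h2) with rfl | rfl
  · exfalso
    apply hLK
    rw [Subgroup.eq_of_le_of_card_ge (le_sup_left : K ≤ K ⊔ L) (by rw [ht, mul_one])]
    exact le_sup_right
  · exact Subgroup.eq_of_le_of_card_ge hle (le_of_eq (by rw [ht, ← h, mul_comm]))

/-- An element of odd order in a subgroup of index three lies in all its conjugates. -/
theorem conj_mem_of_odd [Finite G] {B M : Subgroup G} (hBM : B ≤ M) (h3 : 3 * Nat.card B = Nat.card M)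
    {y h : G} (hy : y ∈ B) (hodd : Odd (orderOf y)) (hh : h ∈ M) : h * y * h⁻¹ ∈ B := by
  classical
  set B' := B.subgroupOf M
  haveI : Fintype (M ⧸ B') := Fintype.ofFinite _
  have hc : Fintype.card (M ⧸ B') = 3 := by
    rw [← Nat.card_eq_fintype_card]
    show B'.index = 3
    have h1 := B'.index_mul_card
    rw [Nat.card_congr (Subgroup.subgroupOfEquivOfLe hBM).toEquiv, ← h3] at h1
    exact Nat.eq_of_mul_eq_mul_right Nat.card_pos h1
  let ym : M := ⟨y, hBM hy⟩
  set σ := MulAction.toPermHom M (M ⧸ B') ym with hσ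
  have hfix : σ ((1 : M) : M ⧸ B') = ((1 : M) : M ⧸ B') := by
    show ((ym * 1 : M) : M ⧸ B') = _
    rw [QuotientGroup.eq, mul_one, mul_one]
    exact Subgroup.mem_subgroupOf.2 (inv_mem hy : (ym⁻¹ : M).1 ∈ B)
  have hσ1 : σ = 1 := by
    by_contra hne
    have hsub : σ.support ⊆ Finset.univ.erase ((1 : M) : M ⧸ B') := fun z hz =>
      Finset.mem_erase.2 ⟨fun e => Equiv.Perm.mem_support.1 hz (e ▸ hfix), Finset.mem_univ _⟩
    have hle := Finset.card_le_card hsub
    rw [Finset.card_erase_of_mem (Finset.mem_univ _), Finset.card_univ, hc] at hle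
    have hge := Equiv.Perm.two_le_card_support_of_ne_one hne
    have hswap := Equiv.Perm.card_support_eq_two.1 (le_antisymm hle hge)
    have hd : orderOf σ ∣ orderOf ym := orderOf_map_dvd _ ym
    rw [hswap.orderOf, ← Subgroup.orderOf_coe] at hd
    exact (Nat.not_even_iff_odd.2 hodd) (even_iff_two_dvd.2 hd)
  have hkey : σ (((⟨h, hh⟩ : M)⁻¹ : M) : M ⧸ B') = (((⟨h, hh⟩ : M)⁻¹ : M) : M ⧸ B') := by
    rw [hσ1]; rfl
  have h2 : ((ym * (⟨h, hh⟩ : M)⁻¹ : M) : M ⧸ B') = (((⟨h, hh⟩ : M)⁻¹ : M) : M ⧸ B') := hkey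
  rw [QuotientGroup.eq, Subgroup.mem_subgroupOf] at h2
  have h4 := inv_mem h2
  simpa [ym, mul_assoc] using h4

/-- The two-group property of the edge stabiliser. -/
theorem edge_isPGroup [Finite G] {H H' : Subgroup G} (hH : IsCoatom H) (hcore : H.normalCore = ⊥)
    (h3 : 3 * Nat.card ↥(H ⊓ H') = Nat.card H) (hcard : Nat.card H' = Nat.card H) :
    IsPGroup 2 ↥(H ⊓ H') := by
  set B := H ⊓ H'
  set U := Subgroup.closure {y : G | y ∈ B ∧ Odd (orderOf y)} with hU
  have key : ∀ M : Subgroup G, B ≤ M → 3 * Nat.card B = Nat.card M →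
      M ≤ Subgroup.normalizer (U : Set G) := by
    intro M hM h3M h hh
    have hmap : ∀ h ∈ M, ∀ y ∈ U, h * y * h⁻¹ ∈ U := by
      intro h hh y hy
      induction hy using Subgroup.closure_induction with
      | mem y hy =>
        refine Subgroup.subset_closure ⟨conj_mem_of_odd hM h3M hy.1 hy.2 hh, ?_⟩
        rw [← MulAut.conj_apply, MulEquiv.orderOf_eq]
        exact hy.2
      | one => simp
      | mul a b _ _ ha hb =>
        have := U.mul_mem ha hb
        simpa [mul_assoc] using this
      | inv a _ ha =>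
        have := U.inv_mem ha
        simpa [mul_assoc] using this
    rw [Subgroup.mem_normalizer_iff]
    refine fun y => ⟨hmap h hh y, fun hy => ?_⟩
    have := hmap h⁻¹ (M.inv_mem hh) _ hy
    simpa [mul_assoc] using this
  have hlt : H < H ⊔ H' := by
    refine lt_of_le_of_ne le_sup_left fun e => ?_
    have h1 : H' ≤ H := e ▸ le_sup_right
    have : B = H' := inf_eq_right.2 h1
    rw [this, hcard] at h3
    have : 0 < Nat.card H := Nat.card_pos
    omega
  have hN : Subgroup.normalizer (U : Set G) = ⊤ := top_le_iff.1 <| hH.2 _ hlt ▸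
    sup_le (key H inf_le_left h3) (key H' inf_le_right (h3.trans hcard.symm))
  haveI : U.Normal := Subgroup.normalizer_eq_top_iff.1 hN
  have hUH : U ≤ H := (Subgroup.closure_le _).2 fun y hy => hy.1.1
  have hUbot : U = ⊥ := le_bot_iff.1 (hcore ▸ (Subgroup.normal_le_normalCore.2 hUH))
  rw [IsPGroup.iff_orderOf]
  intro y
  have hy0 : orderOf (y : G) ≠ 0 := (orderOf_pos (y : G)).ne'
  obtain ⟨a, r, hr, har⟩ := Nat.exists_eq_two_pow_mul_odd hy0
  refine ⟨a, ?_⟩
  have ho : orderOf ((y : G) ^ (2 ^ a)) = r := by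
    rw [orderOf_pow_of_dvd (pow_ne_zero _ two_ne_zero) ⟨r, har⟩, har,
      Nat.mul_div_cancel_left _ (pow_pos two_pos a)]
  have hmem : (y : G) ^ (2 ^ a) ∈ U := Subgroup.subset_closure ⟨B.pow_mem y.2 _, ho.symm ▸ hr⟩
  rw [hUbot, Subgroup.mem_bot] at hmem
  rw [hmem, orderOf_one] at ho
  rw [← Subgroup.orderOf_coe, har, ← ho, mul_one]

/-- The block generated by `m` consecutive generators starting at `i`. -/
def blk (x : ℤ → G) (i : ℤ) (m : ℕ) : Subgroup G := Subgroup.closure (x '' Set.Ico i (i + m))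

/-- A chain of involutions as arises from a suborbit of length three. -/
structure Chain (G : Type*) [Group G] where
  g : G
  x : ℤ → G
  n : ℕ
  shift : ∀ i, g * x i * g⁻¹ = x (i + 1)
  sq : ∀ i, x i * x i = 1
  card_blk : ∀ m, m ≤ n → Nat.card (blk x 0 m) = 2 ^ m
  card_top : Nat.card (blk x 0 (n + 1)) = 3 * 2 ^ n
  maximal : IsCoatom (blk x 0 (n + 1))
  not_normal : ¬ (blk x 0 (n + 1)).Normal
  g_notMem : g ∉ blk x 0 (n + 1)
  central : ∀ z ∈ blk x 0 (n + 1), (∀ y, z * y = y * z) → z = 1

theorem blk_succ_sup (x : ℤ → G) (i : ℤ) (m : ℕ) (hm : 1 ≤ m) :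
    blk x i (m + 1) = blk x i m ⊔ blk x (i + 1) m := by
  rw [blk, blk, blk, ← Subgroup.closure_union, ← Set.image_union]
  congr 2
  ext j
  simp only [Set.mem_union, Set.mem_Ico]
  push_cast
  omega

theorem exists_chain [Finite G] {H : Subgroup G} {g0 : G} (hH : IsCoatom H) (hcore : H.normalCore = ⊥)
    (h3 : 3 * Nat.card ↥(H ⊓ cg g0 H) = Nat.card H) :
    ∃ n : ℕ, Nat.card H = 3 * 2 ^ n ∧
      (1 ≤ n → ∃ C : Chain G, C.n = n ∧ Nonempty (H ≃* blk C.x 0 (n + 1))) := by
  classical
  haveI : Fact (Nat.Prime 2) := ⟨Nat.prime_two⟩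
  obtain ⟨n, hn⟩ := IsPGroup.iff_card.1 (edge_isPGroup hH hcore h3 (card_cg g0 H))
  refine ⟨n, by rw [← h3, hn], fun hn1 => ?_⟩
  set B := H ⊓ cg g0 H with hBdef
  have hnotnormal : ¬ H.Normal := fun h => by
    have : H ≤ H.normalCore := Subgroup.normal_le_normalCore.2 le_rfl
    rw [hcore, le_bot_iff] at this
    rw [this, Subgroup.card_bot] at h3
    omega
  have hnormalTop : ∀ (K : Subgroup G), K ≤ H → Subgroup.normalizer (K : Set G) = ⊤ → K = ⊥ := by
    intro K hK h
    haveI : K.Normal := Subgroup.normalizer_eq_top_iff.1 h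
    exact le_bot_iff.1 (hcore ▸ Subgroup.normal_le_normalCore.2 hK)
  have hg0H : g0 ∉ H := fun h => by
    have : B = H := by rw [hBdef, cg_of_mem h, inf_idem]
    rw [this] at h3
    have : 0 < Nat.card H := Nat.card_pos
    omega
  have hBne : B ≠ ⊥ := fun h => by
    rw [h, Subgroup.card_bot] at hn
    have : 2 ≤ 2 ^ n := le_self_pow₀ (by norm_num) (by omega)
    omega
  obtain ⟨h, hh, hgh⟩ : ∃ h ∈ H, cg (g0 * h) B ≠ B := by
    by_contra hall
    push Not at hall
    have h1 : g0 ∈ Subgroup.normalizer (B : Set G) := by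
      simpa using mem_normalizer_of_cg (hall 1 H.one_mem)
    have h2 : H ≤ Subgroup.normalizer (B : Set G) := fun h hh => by
      have := mul_mem (inv_mem h1) (mem_normalizer_of_cg (hall h hh))
      simpa [← mul_assoc] using this
    exact hBne (hnormalTop B inf_le_left (hH.2 _ (lt_of_le_of_ne h2 fun e => hg0H (e ▸ h1))))
  set g := g0 * h with hg
  have hgH : g ∉ H := fun e => hg0H (by simpa [hg] using H.mul_mem e (H.inv_mem hh))
  have hcgH : cg g H = cg g0 H := by rw [hg, cg_mul, cg_of_mem hh]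
  obtain ⟨S, hS0, hSsucc⟩ : ∃ S : ℕ → Subgroup G, S 0 = H ∧ ∀ r, S (r + 1) = S r ⊓ cg g (S r) :=
    ⟨fun r => Nat.rec (motive := fun _ => Subgroup G) H (fun _ K => K ⊓ cg g K) r, rfl, fun _ => rfl⟩
  have hS1 : S 1 = B := by rw [show (1 : ℕ) = 0 + 1 from rfl, hSsucc, hS0, hcgH]
  have hanti : ∀ r, S r ≤ H := fun r => by
    induction r with
    | zero => rw [hS0]
    | succ r ih => rw [hSsucc]; exact inf_le_left.trans ih
  have main : ∀ r : ℕ, 1 ≤ r → r ≤ n + 1 → ∀ j : ℕ, 1 ≤ j → j ≤ r →
      Nat.card ↥(S j) = 2 ^ (n + 1 - j) ∧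
        (j < r → cg g (S (j - 1)) = S j ⊔ cg g (S j)) := by
    intro r hr
    induction r, hr using Nat.le_induction with
    | base =>
      intro _ j hj1 hj2
      obtain rfl : j = 1 := by omega
      exact ⟨by rw [hS1, hn]; congr 1, fun h => absurd h (by omega)⟩
    | succ r hr1 ih =>
      intro hrn
      have ih' := ih (by omega)
      obtain ⟨hcr, -⟩ := ih' r hr1 le_rfl
      have hne : cg g (S r) ≠ S r := by
        rcases eq_or_lt_of_le hr1 with rfl | hr2
        · rw [hS1]; exact hgh
        intro heq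
        set N := Subgroup.normalizer (S r : Set G)
        have hgN : g ∈ N := mem_normalizer_of_cg heq
        have hback : ∀ K : Subgroup G, cg g K ≤ N → K ≤ N := fun K hK k hk => by
          have := hK (mem_cg.2 (show g⁻¹ * (g * k * g⁻¹) * g ∈ K by simpa [mul_assoc] using hk))
          have := mul_mem (mul_mem (inv_mem hgN) this) hgN
          simpa [mul_assoc] using this
        have hfor : ∀ K : Subgroup G, K ≤ N → cg g K ≤ N := fun K hK k hk => by
          have := mul_mem (mul_mem hgN (hK (mem_cg.1 hk))) (inv_mem hgN)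
          simpa [mul_assoc] using this
        have hdown : ∀ t, t ≤ r - 1 → S (r - 1 - t) ≤ N := by
          intro t
          induction t with
          | zero =>
            intro _
            refine le_normalizer_of_card_two_mul ?_ ?_
            · conv_lhs => rw [show r = r - 1 + 1 by omega, hSsucc]
              exact inf_le_left
            · rw [Nat.sub_zero, hcr, (ih' (r - 1) (by omega) (by omega)).1,
                show n + 1 - (r - 1) = (n + 1 - r) + 1 by omega, pow_succ']
          | succ t iht =>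
            intro ht
            have h1 := iht (by omega)
            obtain ⟨-, hgen⟩ := ih' (r - 1 - t) (by omega) (by omega)
            have h2 := hgen (by omega)
            rw [show r - 1 - t - 1 = r - 1 - (t + 1) by omega] at h2
            exact hback _ (h2 ▸ sup_le h1 (hfor _ h1))
        have hHN : H ≤ N := by simpa [hS0] using hdown (r - 1) le_rfl
        have htop : N = ⊤ := hH.2 _ (lt_of_le_of_ne hHN fun e => hgH (e ▸ hgN))
        have hbot := hnormalTop _ (hanti r) htop
        rw [hbot, Subgroup.card_bot] at hcr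
        have : 2 ≤ 2 ^ (n + 1 - r) := le_self_pow₀ (by norm_num) (by omega)
        omega
      have hle : S r ≤ cg g (S (r - 1)) := by
        conv_lhs => rw [show r = r - 1 + 1 by omega, hSsucc]
        exact inf_le_right
      have hle' : cg g (S r) ≤ cg g (S (r - 1)) := by
        refine cg_mono ?_
        conv_lhs => rw [show r = r - 1 + 1 by omega, hSsucc]
        exact inf_le_left
      obtain ⟨q, hq, hq2, hqc⟩ : ∃ q : ℕ, q.Prime ∧ q ≤ 3 ∧ q * Nat.card (S r) = Nat.card (S (r - 1)) := by
        rcases eq_or_lt_of_le hr1 with rfl | hr2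
        · exact ⟨3, Nat.prime_three, le_rfl, by rw [hS1, Nat.sub_self, hS0, h3]⟩
        · exact ⟨2, Nat.prime_two, by norm_num, by
            rw [hcr, (ih' (r - 1) (by omega) (by omega)).1,
              show n + 1 - (r - 1) = (n + 1 - r) + 1 by omega, pow_succ']⟩
      have hncont : ¬ cg g (S r) ≤ S r := fun h =>
        hne (Subgroup.eq_of_le_of_card_ge h (le_of_eq (card_cg g _).symm))
      have hgen : cg g (S (r - 1)) = S r ⊔ cg g (S r) :=
        (sup_eq_of_prime_index hq hle hle' (by rw [card_cg, hqc]) hncont).symm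
      have hnext : Nat.card (S (r + 1)) = 2 ^ (n + 1 - (r + 1)) := by
        have hidx : (cg g (S r)).relIndex (S r) ≤ q := by
          refine le_trans (Subgroup.relIndex_le_of_le_right hle ?_) (le_of_eq ?_)
          · exact Subgroup.index_ne_zero_of_finite
          · have h1 := ((cg g (S r)).subgroupOf (cg g (S (r - 1)))).index_mul_card
            rw [Nat.card_congr (Subgroup.subgroupOfEquivOfLe hle').toEquiv, card_cg, card_cg, ← hqc] at h1
            exact Nat.eq_of_mul_eq_mul_right Nat.card_pos h1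
        have h1 := ((cg g (S r)).subgroupOf (S r)).index_mul_card
        rw [← Subgroup.inf_subgroupOf_left, Nat.card_congr
          (Subgroup.subgroupOfEquivOfLe (inf_le_left : S r ⊓ cg g (S r) ≤ S r)).toEquiv, hcr,
          Subgroup.inf_subgroupOf_left, ← hSsucc] at h1
        set i := ((cg g (S r)).subgroupOf (S r)).index with hi
        have hiq : i ≤ q := hidx
        obtain ⟨e, -, he⟩ := (Nat.dvd_prime_pow Nat.prime_two).1 (Dvd.intro _ h1)
        have hine : i ≠ 1 := fun h1' => by
          rw [hi, Subgroup.index_eq_one, Subgroup.subgroupOf_eq_top] at h1'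
          exact hne (Subgroup.eq_of_le_of_card_ge h1' (le_of_eq (card_cg g _))).symm
        obtain rfl : e = 1 := by
          rcases (show e = 0 ∨ e = 1 ∨ 2 ≤ e by omega) with rfl | h | h
          · simp [he] at hine
          · exact h
          · have := Nat.pow_le_pow_right two_pos h
            omega
        rw [he, pow_one, show n + 1 - r = (n + 1 - (r + 1)) + 1 by omega, pow_succ'] at h1
        exact Nat.eq_of_mul_eq_mul_left two_pos h1
      intro j hj1 hj2
      rcases (show j < r ∨ j = r ∨ j = r + 1 by omega) with h | rfl | rfl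
      · exact ⟨(ih' j hj1 h.le).1, fun _ => (ih' j hj1 h.le).2 h⟩
      · exact ⟨hcr, fun _ => hgen⟩
      · exact ⟨hnext, fun h => absurd h (by omega)⟩
  have hcard : ∀ j, 1 ≤ j → j ≤ n + 1 → Nat.card (S j) = 2 ^ (n + 1 - j) := fun j h1 h2 =>
    (main (n + 1) (by omega) le_rfl j h1 h2).1
  have hgenS : ∀ j, 1 ≤ j → j ≤ n → cg g (S (j - 1)) = S j ⊔ cg g (S j) := fun j h1 h2 =>
    (main (n + 1) (by omega) le_rfl j h1 (by omega)).2 (by omega)
  have hSn : Nat.card (S n) = 2 := by rw [hcard n hn1 (by omega)]; norm_num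
  obtain ⟨s, hs⟩ := exists_prime_orderOf_dvd_card' (G := S n) 2 (dvd_of_eq hSn.symm)
  have hs' : S n = Subgroup.zpowers (s : G) :=
    (Subgroup.eq_of_le_of_card_ge (Subgroup.zpowers_le.2 s.2)
      (by rw [Nat.card_zpowers, Subgroup.orderOf_coe, hs, hSn])).symm
  let x : ℤ → G := fun i => g ^ i * s * (g ^ i)⁻¹
  have hblk : ∀ j, j ≤ n → blk x 0 (j + 1) = cg (g ^ (j : ℤ)) (S (n - j)) := by
    have hshift : ∀ m, blk x 1 m = cg g (blk x 0 m) := by
      intro m
      rw [blk, blk, cg, MonoidHom.map_closure, ← Set.image_comp]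
      congr 1
      ext y
      simp only [Set.mem_image, Set.mem_Ico, Function.comp_apply, MulEquiv.coe_toMonoidHom,
        MulAut.conj_apply, x]
      constructor
      · rintro ⟨i, hi, rfl⟩
        refine ⟨i - 1, by omega, ?_⟩
        rw [show g ^ i = g * g ^ (i - 1) by rw [← zpow_one_add]; congr 1; omega]
        group
      · rintro ⟨i, hi, rfl⟩
        refine ⟨i + 1, by omega, ?_⟩
        rw [show g ^ (i + 1) = g * g ^ i by rw [← zpow_one_add]; congr 1; omega]
        group
    intro j
    induction j with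
    | zero =>
      intro _
      have : Set.Ico (0 : ℤ) (0 + ((0 + 1 : ℕ) : ℤ)) = {0} := by
        ext i; simp only [Set.mem_Ico, Set.mem_singleton_iff]; push_cast; omega
      rw [blk, this, Set.image_singleton, ← Subgroup.zpowers_eq_closure, Nat.sub_zero, Nat.cast_zero,
        zpow_zero, cg_one, hs']
      simp [x]
    | succ j ih =>
      intro hj
      rw [blk_succ_sup x 0 (j + 1) (by omega), zero_add, hshift, ih (by omega)]
      have h1 := hgenS (n - j) (by omega) (by omega)
      rw [show n - j - 1 = n - (j + 1) by omega] at h1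
      rw [← cg_mul g, Nat.cast_succ, ← zpow_one_add, add_comm (1 : ℤ), zpow_add_one,
        cg_mul, ← cg_sup, ← h1, ← cg_mul]
  have htop : blk x 0 (n + 1) = cg (g ^ (n : ℤ)) H := by rw [hblk n le_rfl, Nat.sub_self, hS0]
  refine ⟨{ g := g, x := x, n := n, shift := ?_, sq := ?_, card_blk := ?_, card_top := ?_,
            maximal := ?_, not_normal := ?_, g_notMem := ?_, central := ?_ }, rfl, ⟨?_⟩⟩
  · intro i
    simp only [x]
    rw [show g ^ (i + 1) = g * g ^ i by rw [← zpow_one_add]; congr 1; omega]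
    group
  · intro i
    have h2 : (s : G) * s = 1 := by
      rw [← pow_two, ← hs, ← Subgroup.orderOf_coe]; exact pow_orderOf_eq_one _
    calc g ^ i * s * (g ^ i)⁻¹ * (g ^ i * s * (g ^ i)⁻¹) = g ^ i * (s * s) * (g ^ i)⁻¹ := by group
      _ = 1 := by rw [h2]; group
  · intro m hm
    rcases Nat.eq_zero_or_pos m with rfl | hm0
    · simp [blk]
    · obtain ⟨j, rfl⟩ : ∃ j, m = j + 1 := ⟨m - 1, by omega⟩
      rw [hblk j (by omega), card_cg, hcard (n - j) (by omega) (by omega),
        show n + 1 - (n - j) = j + 1 by omega]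
  · rw [htop, card_cg, ← h3, hn]
  · rw [htop]
    exact ((MulAut.conj (g ^ (n : ℤ))).mapSubgroup.isCoatom_iff H).2 hH
  · rw [htop]
    intro hN
    refine hnotnormal ⟨fun y hy z => ?_⟩
    have := hN.conj_mem _ (mem_cg.2 (show (g ^ (n : ℤ))⁻¹ * (g ^ (n : ℤ) * y * (g ^ (n : ℤ))⁻¹) *
      g ^ (n : ℤ) ∈ H by simpa [mul_assoc] using hy)) (g ^ (n : ℤ) * z * (g ^ (n : ℤ))⁻¹)
    rw [mem_cg] at this
    simpa [mul_assoc] using this
  · rw [htop, mem_cg]
    intro h
    refine hgH ?_
    rwa [mul_assoc, (Commute.self_zpow g _).eq, inv_mul_cancel_left] at h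
  · intro z hz hc
    rw [htop, mem_cg] at hz
    have hzH : z ∈ H := by
      rw [mul_assoc, hc, inv_mul_cancel_left] at hz
      exact hz
    haveI : (Subgroup.zpowers z).Normal := by
      refine Subgroup.normalizer_eq_top_iff.1 (top_le_iff.1 fun y _ => mem_normalizer_of_cg ?_)
      rw [cg, MonoidHom.map_zpowers]
      congr 1
      show y * z * y⁻¹ = z
      rw [← hc, mul_inv_cancel_right]
    have := Subgroup.normal_le_normalCore.2 (Subgroup.zpowers_le.2 hzH)
    rw [hcore] at this
    exact Subgroup.mem_bot.1 (this (Subgroup.mem_zpowers z))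
  · rw [htop]
    exact H.equivMapOfInjective _ (MulAut.conj _).injective

end Cfsg.Agent.H81.Cubic
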