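import Mathlib
import Cfsg.Agent.H81.CubicChain

/-! From a primitive action with a suborbit of length three to the chain hypotheses. -/

set_option autoImplicit false

namespace Cfsg.Agent.H81.Cubic

theorem of_orbit {G Ω : Type*} [Group G] [Finite G] [MulAction G Ω] [FaithfulSMul G Ω]
    (hprim : MulAction.IsPreprimitive G Ω) (a b : Ω)
    (h3 : Nat.card (MulAction.orbit (MulAction.stabilizer G a) b) = 3) :
    ∃ g0 : G, IsCoatom (MulAction.stabilizer G a) ∧ (MulAction.stabilizer G a).normalCore = ⊥ ∧
      3 * Nat.card ↥(MulAction.stabilizer G a ⊓ cg g0 (MulAction.stabilizer G a)) =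
        Nat.card (MulAction.stabilizer G a) := by
  set H := MulAction.stabilizer G a with hH
  haveI := hprim
  haveI : Nontrivial Ω := by
    haveI : Finite (MulAction.orbit H b) := Nat.finite_of_card_ne_zero (by omega)
    obtain ⟨u, v, huv⟩ := Finite.one_lt_card_iff_nontrivial.1 (show 1 < Nat.card (MulAction.orbit H b) by omega)
    exact ⟨u.1, v.1, fun e => huv (Subtype.ext e)⟩
  obtain ⟨g0, hg0⟩ := MulAction.exists_smul_eq G a b
  refine ⟨g0, MulAction.IsPreprimitive.isCoatom_stabilizer_of_isPreprimitive (G := G) a, ?_, ?_⟩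
  · rw [Subgroup.eq_bot_iff_forall]
    intro z hz
    refine FaithfulSMul.eq_of_smul_eq_smul (α := Ω) fun x => ?_
    obtain ⟨k, rfl⟩ := MulAction.exists_smul_eq G a x
    have h := (H.normalCore_normal).conj_mem z hz k⁻¹
    have h' := MulAction.mem_stabilizer_iff.1 (H.normalCore_le h)
    rw [inv_inv, mul_smul, mul_smul, inv_smul_eq_iff] at h'
    rw [h', one_smul]
  · have hB : cg g0 H = MulAction.stabilizer G b := by
      rw [← hg0, MulAction.stabilizer_smul_eq_stabilizer_map_conj]
      rfl
    have h := ((MulAction.stabilizer G b).subgroupOf H).index_mul_card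
    have hs : (MulAction.stabilizer G b).subgroupOf H = MulAction.stabilizer H b := rfl
    rw [show ((MulAction.stabilizer G b).subgroupOf H).index = 3 by
      rw [hs, MulAction.index_stabilizer, ← Nat.card_coe_set_eq]; exact h3] at h
    rw [hB, ← h, ← Subgroup.inf_subgroupOf_left, Nat.card_congr
      (Subgroup.subgroupOfEquivOfLe (inf_le_left : H ⊓ MulAction.stabilizer G b ≤ H)).toEquiv]

end Cfsg.Agent.H81.Cubic
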