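import Mathlib
import Cfsg.Agent.H81.CubicChain

/-! Sims's theorem: in a chain of involutions from a suborbit of length three, `n ≤ 4`. -/

set_option autoImplicit false

namespace Cfsg.Agent.H81.Cubic

variable {G : Type*} [Group G]

theorem mul_mem_of_card_two_mul [Finite G] {K L : Subgroup G} (hKL : K ≤ L)
    (h : 2 * Nat.card K = Nat.card L) {a b : G} (ha : a ∈ L) (hb : b ∈ L) (haK : a ∉ K) (hbK : b ∉ K) :
    a * b ∈ K := by
  have h1 := (K.subgroupOf L).index_mul_card
  rw [Nat.card_congr (Subgroup.subgroupOfEquivOfLe hKL).toEquiv, ← h] at h1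
  have h2 := Nat.eq_of_mul_eq_mul_right Nat.card_pos h1
  have h3 := (Subgroup.mul_mem_iff_of_index_two h2 (a := ⟨a, ha⟩) (b := ⟨b, hb⟩))
  simp only [Subgroup.mem_subgroupOf, Subgroup.coe_mul] at h3
  exact h3.2 (iff_of_false haK hbK)

/-- An involution lies in every normal subgroup of index three. -/
theorem mem_of_index_three [Finite G] {K L : Subgroup G} (hKL : K ≤ L)
    (h : 3 * Nat.card K = Nat.card L) (hn : L ≤ Subgroup.normalizer (K : Set G)) {y : G}
    (hy : y ∈ L) (hy2 : y * y = 1) : y ∈ K := by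
  haveI := (Subgroup.normal_subgroupOf_iff_le_normalizer hKL).mpr hn
  have h1 := (K.subgroupOf L).index_mul_card
  rw [Nat.card_congr (Subgroup.subgroupOfEquivOfLe hKL).toEquiv, ← h] at h1
  have h2 : Nat.card (L ⧸ K.subgroupOf L) = 3 := Nat.eq_of_mul_eq_mul_right Nat.card_pos h1
  let q : L ⧸ K.subgroupOf L := ((⟨y, hy⟩ : L) : L ⧸ K.subgroupOf L)
  have e : (⟨y, hy⟩ : L) ^ 2 = 1 := Subtype.ext (by simpa [pow_two] using hy2)
  have hq2 : q ^ 2 = 1 := by rw [← QuotientGroup.mk_pow, e, QuotientGroup.mk_one]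
  have hq3 : q ^ 3 = 1 := h2 ▸ pow_card_eq_one'
  have hq : q = 1 := by
    rw [pow_succ, hq2, one_mul] at hq3
    exact hq3
  exact Subgroup.mem_subgroupOf.1 ((QuotientGroup.eq_one_iff _).1 hq)

theorem invol_mem_normalizer {K : Subgroup G} {S : Set G} (hK : K = Subgroup.closure S) {y : G}
    (hy : y * y = 1) (h : ∀ s ∈ S, y * s * y ∈ K) : y ∈ Subgroup.normalizer (K : Set G) := by
  have hyi : y⁻¹ = y := inv_eq_of_mul_eq_one_right hy
  have hc : ∀ z ∈ K, y * z * y ∈ K := fun z hz => by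
    have : z ∈ (Subgroup.comap (MulAut.conj y).toMonoidHom K) := by
      rw [hK] at hz
      refine (Subgroup.closure_le _).2 (fun s hs => ?_) hz
      show y * s * y⁻¹ ∈ K
      rw [hyi]; exact h s hs
    simpa [hyi] using! this
  rw [Subgroup.mem_normalizer_iff]
  refine fun z => ⟨fun hz => by rw [hyi]; exact hc z hz, fun hz => ?_⟩
  have := hc _ hz
  rw [hyi] at this
  rwa [show y * (y * z * y) * y = (y * y) * z * (y * y) by group, hy, one_mul, mul_one] at this

theorem commute_cancel {a b c d : G} (h : Commute (c * a) (d * b)) (hab : Commute a b)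
    (hda : Commute d a) (hdc : Commute d c) : Commute c b := by
  have h1 : d * (c * b * a) = d * (b * c * a) := by
    calc d * (c * b * a) = d * c * (b * a) := by group
      _ = d * c * (a * b) := by rw [hab.eq]
      _ = c * (d * a) * b := by rw [hdc.eq]; group
      _ = c * (a * d) * b := by rw [hda.eq]
      _ = c * a * (d * b) := by group
      _ = d * b * (c * a) := h.eq
      _ = d * (b * c * a) := by group
  exact mul_right_cancel (mul_left_cancel h1)

namespace Chain

variable [Finite G] (C : Chain G)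

theorem inv_x (i : ℤ) : (C.x i)⁻¹ = C.x i := inv_eq_of_mul_eq_one_right (C.sq i)

theorem conj_zpow_x (j i : ℤ) : C.g ^ j * C.x i * (C.g ^ j)⁻¹ = C.x (i + j) := by
  induction j using Int.induction_on generalizing i with
  | zero => simp
  | succ k ih =>
    rw [zpow_add_one, mul_inv_rev, show C.g ^ (k : ℤ) * C.g * C.x i * (C.g⁻¹ * (C.g ^ (k : ℤ))⁻¹) =
      C.g ^ (k : ℤ) * (C.g * C.x i * C.g⁻¹) * (C.g ^ (k : ℤ))⁻¹ by group, C.shift, ih]
    congr 1; omega
  | pred k ih =>
    have h := C.shift (i - 1)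
    rw [sub_add_cancel] at h
    rw [zpow_sub_one, mul_inv_rev, show C.g ^ (-(k : ℤ)) * C.g⁻¹ * C.x i * (C.g⁻¹⁻¹ * (C.g ^ (-(k : ℤ)))⁻¹) =
      C.g ^ (-(k : ℤ)) * (C.g⁻¹ * C.x i * C.g) * (C.g ^ (-(k : ℤ)))⁻¹ by group]
    conv_lhs => rw [← h]
    rw [show C.g⁻¹ * (C.g * C.x (i - 1) * C.g⁻¹) * C.g = C.x (i - 1) by group, ih]
    congr 1; omega

theorem cg_blk (j i : ℤ) (m : ℕ) : cg (C.g ^ j) (blk C.x i m) = blk C.x (i + j) m := by
  rw [blk, blk, cg, MonoidHom.map_closure, ← Set.image_comp]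
  congr 1
  ext y
  simp only [Set.mem_image, Set.mem_Ico, Function.comp_apply, MulEquiv.coe_toMonoidHom,
    MulAut.conj_apply, C.conj_zpow_x]
  constructor
  · rintro ⟨l, hl, rfl⟩; exact ⟨l + j, by omega, rfl⟩
  · rintro ⟨l, hl, rfl⟩; exact ⟨l - j, by omega, by congr 1; omega⟩

theorem card_blk' (i : ℤ) {m : ℕ} (hm : m ≤ C.n) : Nat.card (blk C.x i m) = 2 ^ m := by
  rw [← C.card_blk m hm, ← card_cg (C.g ^ i) (blk C.x 0 m), C.cg_blk, zero_add]

theorem card_top' (i : ℤ) : Nat.card (blk C.x i (C.n + 1)) = 3 * 2 ^ C.n := by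
  rw [← C.card_top, ← card_cg (C.g ^ i) (blk C.x 0 (C.n + 1)), C.cg_blk, zero_add]

theorem mem_blk {i l : ℤ} {m : ℕ} (h1 : i ≤ l) (h2 : l < i + m) : C.x l ∈ blk C.x i m :=
  Subgroup.subset_closure ⟨l, ⟨h1, h2⟩, rfl⟩

theorem blk_mono {i i' : ℤ} {m m' : ℕ} (h1 : i' ≤ i) (h2 : i + m ≤ i' + m') :
    blk C.x i m ≤ blk C.x i' m' :=
  Subgroup.closure_mono (Set.image_mono fun l hl => ⟨by have := hl.1; omega, by have := hl.2; omega⟩)

theorem blk_le {i : ℤ} {m : ℕ} {K : Subgroup G} (h : ∀ l, i ≤ l → l < i + m → C.x l ∈ K) :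
    blk C.x i m ≤ K :=
  (Subgroup.closure_le _).2 (by rintro _ ⟨l, hl, rfl⟩; exact h l hl.1 hl.2)

theorem blk_zero (i : ℤ) : blk C.x i 0 = ⊥ := by
  refine le_bot_iff.1 (C.blk_le fun l h1 h2 => ?_)
  omega

theorem left_notMem {i : ℤ} {m : ℕ} (hm : m + 1 ≤ C.n) : C.x i ∉ blk C.x (i + 1) m := by
  intro h
  have hle : blk C.x i (m + 1) ≤ blk C.x (i + 1) m := C.blk_le fun l h1 h2 => by
    rcases eq_or_lt_of_le h1 with rfl | h1
    · exact h
    · exact C.mem_blk (by omega) (by push_cast at h2; omega)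
  have := Subgroup.card_le_of_le hle
  rw [C.card_blk' _ hm, C.card_blk' _ (by omega), pow_succ] at this
  have : 0 < 2 ^ m := pow_pos two_pos m
  omega

theorem right_notMem {i : ℤ} {m : ℕ} (hm : m + 1 ≤ C.n) : C.x (i + m) ∉ blk C.x i m := by
  intro h
  have hle : blk C.x i (m + 1) ≤ blk C.x i m := C.blk_le fun l h1 h2 => by
    rcases eq_or_lt_of_le (show l ≤ i + m by push_cast at h2; omega) with rfl | h2
    · exact h
    · exact C.mem_blk h1 h2
  have := Subgroup.card_le_of_le hle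
  rw [C.card_blk' _ hm, C.card_blk' _ (by omega), pow_succ] at this
  have : 0 < 2 ^ m := pow_pos two_pos m
  omega

theorem x_ne_one (hn : 1 ≤ C.n) (i : ℤ) : C.x i ≠ 1 := fun h =>
  C.left_notMem (i := i) (m := 0) hn (h ▸ one_mem _)

theorem split_left {i : ℤ} {m : ℕ} (hm : m + 1 ≤ C.n) {y : G} (hy : y ∈ blk C.x i (m + 1)) :
    y ∈ blk C.x (i + 1) m ∨ C.x i * y ∈ blk C.x (i + 1) m := by
  refine or_iff_not_imp_left.2 fun h => ?_
  refine mul_mem_of_card_two_mul (C.blk_mono (by omega) (by push_cast; omega)) ?_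
    (C.mem_blk le_rfl (by push_cast; omega)) hy (C.left_notMem hm) h
  rw [C.card_blk' _ hm, C.card_blk' _ (by omega), pow_succ']

theorem split_right {i : ℤ} {m : ℕ} (hm : m + 1 ≤ C.n) {y : G} (hy : y ∈ blk C.x i (m + 1)) :
    y ∈ blk C.x i m ∨ y * C.x (i + m) ∈ blk C.x i m := by
  refine or_iff_not_imp_left.2 fun h => ?_
  refine mul_mem_of_card_two_mul (C.blk_mono le_rfl (by push_cast; omega)) ?_
    hy (C.mem_blk (by omega) (by push_cast; omega)) h (C.right_notMem hm)
  rw [C.card_blk' _ hm, C.card_blk' _ (by omega), pow_succ']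

/-- The commutator of two generators lies strictly between them. -/
theorem comm_mem {i j : ℤ} {d : ℕ} (hd : d + 1 < C.n) (hj : j = i + (d + 1)) :
    C.x i * C.x j * C.x i * C.x j ∈ blk C.x (i + 1) d := by
  subst hj
  have hi : C.x i ∈ blk C.x i (d + 2) := C.mem_blk le_rfl (by push_cast; omega)
  have hj : C.x (i + (d + 1)) ∈ blk C.x i (d + 2) := C.mem_blk (by omega) (by push_cast; omega)
  have hN1 := le_normalizer_of_card_two_mul (C.blk_mono (i := i) (i' := i) (m := d + 1) (m' := d + 2)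
    le_rfl (by push_cast; omega)) (by rw [C.card_blk' _ (by omega), C.card_blk' _ (by omega), ← pow_succ'])
  have hN2 := le_normalizer_of_card_two_mul (C.blk_mono (i := i + 1) (i' := i) (m := d + 1) (m' := d + 2)
    (by omega) (by push_cast; omega)) (by rw [C.card_blk' _ (by omega), C.card_blk' _ (by omega), ← pow_succ'])
  set y := C.x i * C.x (i + (d + 1)) * C.x i * C.x (i + (d + 1)) with hy
  have h1 : y ∈ blk C.x i (d + 1) := by
    have h := (Subgroup.mem_normalizer_iff.1 (hN1 hj) (C.x i)).1 (C.mem_blk le_rfl (by push_cast; omega))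
    have := mul_mem (C.mem_blk (l := i) (i := i) (m := d + 1) le_rfl (by push_cast; omega)) h
    rw [C.inv_x] at this
    simpa [hy, mul_assoc] using this
  have h2 : y ∈ blk C.x (i + 1) (d + 1) := by
    have h := (Subgroup.mem_normalizer_iff.1 (hN2 hi) (C.x (i + (d + 1)))).1
      (C.mem_blk (by omega) (by push_cast; omega))
    have := mul_mem h (C.mem_blk (l := i + (d + 1)) (i := i + 1) (m := d + 1) (by omega) (by push_cast; omega))
    rw [C.inv_x] at this
    exact this
  rcases C.split_left (by omega) h1 with h | h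
  · exact h
  · exfalso
    refine C.left_notMem (i := i) (m := d + 1) (by omega) ?_
    have := mul_mem (C.blk_mono (i := i + 1) (i' := i + 1) (m := d) (m' := d + 1) le_rfl
      (by push_cast; omega) h) (inv_mem h2)
    simpa using this

/-- All generators at distance less than `k` commute. -/
def Com (k : ℕ) : Prop := ∀ i j : ℤ, i - j < k → j - i < k → Commute (C.x i) (C.x j)

theorem commute_shift {i j : ℤ} (s : ℤ) (h : Commute (C.x i) (C.x j)) :
    Commute (C.x (i + s)) (C.x (j + s)) := by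
  rw [← C.conj_zpow_x s i, ← C.conj_zpow_x s j]
  exact (Commute.map h (MulAut.conj (C.g ^ s)).toMonoidHom)

theorem com_of (k : ℕ) (h : ∀ d : ℕ, d < k → Commute (C.x 0) (C.x d)) : C.Com k := by
  intro i j h1 h2
  rcases le_or_gt i j with hij | hij
  · obtain ⟨d, hd⟩ := Int.le.dest hij
    have := C.commute_shift i (h d (by omega))
    rwa [zero_add, add_comm, hd] at this
  · obtain ⟨d, hd⟩ := Int.le.dest hij.le
    have := C.commute_shift j (h d (by omega))
    rw [zero_add, add_comm, hd] at this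
    exact this.symm

theorem not_commute_shift {k : ℕ} (h : ¬ Commute (C.x 0) (C.x k)) {i j : ℤ} (hj : j = i + k) :
    ¬ Commute (C.x i) (C.x j) := by
  subst hj
  intro h'
  apply h
  have := C.commute_shift (-i) h'
  rwa [add_neg_cancel, add_right_comm, add_neg_cancel, zero_add] at this

theorem commute_blk {i : ℤ} {m : ℕ} {z y : G}
    (h : ∀ l, i ≤ l → l < i + m → Commute z (C.x l)) (hy : y ∈ blk C.x i m) : Commute z y := by
  have := C.blk_le (K := Subgroup.centralizer {z}) (fun l h1 h2 => by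
    rw [Subgroup.mem_centralizer_singleton_iff]; exact (h l h1 h2).eq.symm) hy
  rw [Subgroup.mem_centralizer_singleton_iff] at this
  exact Eq.symm this

theorem blk_commute_blk {k : ℕ} (hk : C.Com k) {i i' : ℤ} {m m' : ℕ} {y z : G} (hy : y ∈ blk C.x i m)
    (hz : z ∈ blk C.x i' m') (h1 : i + m ≤ i' + k) (h2 : i' + m' ≤ i + k) : Commute y z :=
  C.commute_blk (fun l a b =>
    (C.commute_blk (fun l' a' b' => hk l l' (by omega) (by omega)) hy).symm) hz

theorem blk_sq {k : ℕ} (hk : C.Com k) {i : ℤ} {m : ℕ} (hm : m ≤ k) {y : G} (hy : y ∈ blk C.x i m) :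
    y * y = 1 := by
  induction hy using Subgroup.closure_induction with
  | mem z hz => obtain ⟨l, -, rfl⟩ := hz; exact C.sq l
  | one => simp
  | mul a b ha hb iha ihb =>
    have hab : Commute a b := C.blk_commute_blk hk ha hb (by omega) (by omega)
    calc a * b * (a * b) = a * (b * a) * b := by group
      _ = a * (a * b) * b := by rw [hab.eq]
      _ = a * a * (b * b) := by group
      _ = 1 := by rw [iha, ihb, one_mul]
  | inv a _ iha => rw [← mul_inv_rev, iha, inv_one]

theorem normalizer_eq : Subgroup.normalizer (blk C.x 0 (C.n + 1) : Set G) = blk C.x 0 (C.n + 1) := by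
  by_contra h
  exact C.not_normal (Subgroup.normalizer_eq_top_iff.1
    (C.maximal.2 _ (lt_of_le_of_ne Subgroup.le_normalizer (Ne.symm h))))

theorem isCoatom_blk (i : ℤ) : IsCoatom (blk C.x i (C.n + 1)) := by
  have h := ((MulAut.conj (C.g ^ i)).mapSubgroup.isCoatom_iff (blk C.x 0 (C.n + 1))).2 C.maximal
  have e : (MulAut.conj (C.g ^ i)).mapSubgroup (blk C.x 0 (C.n + 1)) = blk C.x i (C.n + 1) :=
    (C.cg_blk i 0 (C.n + 1)).trans (by rw [zero_add])
  rwa [e] at h

theorem next_notMem : C.x (C.n + 1) ∉ blk C.x 0 (C.n + 1) := by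
  intro h
  have hle : blk C.x 1 (C.n + 1) ≤ blk C.x 0 (C.n + 1) := C.blk_le fun l h1 h2 => by
    rcases eq_or_lt_of_le (show l ≤ (C.n : ℤ) + 1 by push_cast at h2; omega) with rfl | h2'
    · exact h
    · exact C.mem_blk (by omega) (by push_cast; omega)
  have heq := Subgroup.eq_of_le_of_card_ge hle (by rw [C.card_top' 0, C.card_top' 1])
  apply C.g_notMem
  rw [← C.normalizer_eq]
  refine mem_normalizer_of_cg ?_
  have := C.cg_blk 1 0 (C.n + 1)
  rwa [zpow_one, zero_add, heq] at this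

theorem eq_one_of_central {z : G} (hz : z ∈ blk C.x 0 (C.n + 1))
    (h : ∀ l : ℤ, 0 ≤ l → l ≤ C.n + 1 → Commute z (C.x l)) : z = 1 := by
  refine C.central z hz fun y => ?_
  set Z := Subgroup.centralizer ({z} : Set G)
  have hmem : ∀ l : ℤ, 0 ≤ l → l ≤ C.n + 1 → C.x l ∈ Z := fun l h1 h2 => by
    rw [Subgroup.mem_centralizer_singleton_iff]; exact (h l h1 h2).eq.symm
  have hle : blk C.x 0 (C.n + 1) ≤ Z := C.blk_le fun l h1 h2 => hmem l h1 (by push_cast at h2; omega)
  have htop : Z = ⊤ := C.maximal.2 _ (lt_of_le_of_ne hle fun e =>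
    C.next_notMem (e ▸ hmem _ (by omega) le_rfl))
  have hy : y ∈ Z := htop ▸ Subgroup.mem_top y
  rw [Subgroup.mem_centralizer_singleton_iff] at hy
  exact hy.symm

/-- `k` is the least distance of two noncommuting generators. -/
structure IsGap (k : ℕ) : Prop where
  com : C.Com k
  ncomm : ¬ Commute (C.x 0) (C.x k)
  pos : 2 ≤ k
  lt : k < C.n

theorem two_of_com (h : C.Com C.n) : C.n ≤ 2 := by
  by_contra h3
  push Not at h3
  refine C.x_ne_one (by omega) 2 (C.eq_one_of_central (C.mem_blk (by omega) (by omega)) fun l h1 h2 => ?_)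
  exact h 2 l (by omega) (by omega)

theorem exists_gap (h3 : 3 ≤ C.n) : ∃ k, C.IsGap k := by
  classical
  have hex : ∃ d : ℕ, d < C.n ∧ ¬ Commute (C.x 0) (C.x d) := by
    by_contra h
    push Not at h
    have := C.two_of_com (C.com_of _ h)
    omega
  set k := Nat.find hex
  obtain ⟨hk1, hk2⟩ := Nat.find_spec hex
  have hk : ∀ d, d < k → Commute (C.x 0) (C.x d) := fun d hd => by
    have := Nat.find_min hex hd
    push Not at this
    exact this (by omega)
  refine ⟨k, C.com_of k hk, hk2, ?_, hk1⟩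
  by_contra h2
  apply hk2
  rcases (show k = 0 ∨ k = 1 by omega) with h | h
  · rw [show Nat.find hex = 0 from h]; simp
  · rw [show Nat.find hex = 1 from h]
    have := C.comm_mem (i := 0) (j := 1) (d := 0) (by omega) (by norm_num)
    rw [C.blk_zero, Subgroup.mem_bot] at this
    show C.x 0 * C.x ((1 : ℕ) : ℤ) = C.x ((1 : ℕ) : ℤ) * C.x 0
    rw [Nat.cast_one, mul_eq_one_iff_eq_inv, C.inv_x] at *
    calc C.x 0 * C.x 1 = C.x 0 * C.x 1 * (C.x 0 * C.x 0) := by rw [C.sq, mul_one]
      _ = C.x 0 * C.x 1 * C.x 0 * C.x 0 := by group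
      _ = C.x 1 * C.x 0 := by rw [this]

variable {C}
variable {k : ℕ}

theorem IsGap.c_mem (hk : C.IsGap k) : C.x 0 * C.x k * C.x 0 * C.x k ∈ blk C.x 1 (k - 1) := by
  have := hk.pos
  have := C.comm_mem (i := 0) (j := k) (d := k - 1) (by have := hk.lt; omega) (by omega)
  rwa [zero_add] at this

theorem IsGap.c_ne_one (hk : C.IsGap k) : C.x 0 * C.x k * C.x 0 * C.x k ≠ 1 := by
  intro h
  apply hk.ncomm
  rw [mul_eq_one_iff_eq_inv, C.inv_x] at h
  calc C.x 0 * C.x k = C.x 0 * C.x k * (C.x 0 * C.x 0) := by rw [C.sq, mul_one]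
    _ = C.x 0 * C.x k * C.x 0 * C.x 0 := by group
    _ = C.x k * C.x 0 := by rw [h]

theorem IsGap.low_step (hk : C.IsGap k) {i : ℤ} {m : ℕ} (hi : 1 ≤ i) (him : i + (m + 1) ≤ k)
    (hin : i + k + 1 ≤ C.n) (hc : C.x 0 * C.x k * C.x 0 * C.x k ∈ blk C.x i (m + 1)) :
    C.x 0 * C.x k * C.x 0 * C.x k ∈ blk C.x (i + 1) m := by
  have := hk.lt
  set c := C.x 0 * C.x k * C.x 0 * C.x k with hcdef
  refine (C.split_left (by omega) hc).resolve_right fun he => ?_
  set L : ℤ := i + k with hL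
  obtain ⟨L', hL'⟩ : ∃ L' : ℕ, (L' : ℤ) = L := ⟨L.toNat, by omega⟩
  set d := C.x 0 * C.x L * C.x 0 * C.x L with hddef
  have hd : d ∈ blk C.x 1 (L' - 1) := by
    have := C.comm_mem (i := 0) (j := L) (d := L' - 1) (by omega) (by omega)
    rwa [zero_add] at this
  have hkL : Commute (C.x k) (C.x L) := hk.com _ _ (by omega) (by omega)
  have h1 : Commute (c * C.x k) (d * C.x L) := by
    have e1 : c * C.x k = C.x 0 * C.x k * C.x 0 := by rw [hcdef, mul_assoc _ (C.x k), C.sq, mul_one]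
    have e2 : d * C.x L = C.x 0 * C.x L * C.x 0 := by rw [hddef, mul_assoc _ (C.x L), C.sq, mul_one]
    rw [e1, e2]
    have := Commute.map hkL (MulAut.conj (C.x 0)).toMonoidHom
    simpa [C.inv_x] using this
  have h2 : Commute c (C.x L) := commute_cancel h1 hkL
    (C.commute_blk (fun l a b => hk.com _ _ (by omega) (by omega)) hd).symm
    (C.blk_commute_blk hk.com hd hc (by omega) (by omega))
  have h3 : Commute (C.x L) (C.x i * c) := C.commute_blk (fun l a b => hk.com _ _ (by omega) (by omega)) he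
  refine C.not_commute_shift hk.ncomm hL ?_
  have := h3.mul_right h2.symm.inv_right
  simpa using this.symm

theorem IsGap.high_step (hk : C.IsGap k) {i : ℤ} {m : ℕ} (hi : 1 ≤ i) (him : i + (m + 1) ≤ k)
    (hjn : 2 * (k : ℤ) + 1 ≤ C.n + (i + m)) (hc : C.x 0 * C.x k * C.x 0 * C.x k ∈ blk C.x i (m + 1)) :
    C.x 0 * C.x k * C.x 0 * C.x k ∈ blk C.x i m := by
  have := hk.lt
  set c := C.x 0 * C.x k * C.x 0 * C.x k with hcdef
  refine (C.split_right (by omega) hc).resolve_right fun he => ?_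
  set l : ℤ := i + m - k with hl
  obtain ⟨e, hel⟩ : ∃ e : ℕ, (e : ℤ) = k - l := ⟨(k - l : ℤ).toNat, by omega⟩
  set d := C.x l * C.x k * C.x l * C.x k with hddef
  have hd : d ∈ blk C.x (l + 1) (e - 1) := C.comm_mem (i := l) (j := k) (d := e - 1) (by omega) (by omega)
  have h0l : Commute (C.x 0) (C.x l) := hk.com _ _ (by omega) (by omega)
  have hinv : ∀ a b : G, a * a = 1 → b * b = 1 → (a * b * a * b)⁻¹ * a = b * a * b := fun a b ha hb => by
    rw [mul_inv_rev, mul_inv_rev, mul_inv_rev, inv_eq_of_mul_eq_one_right ha, inv_eq_of_mul_eq_one_right hb]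
    calc b * (a * (b * a)) * a = b * a * b * (a * a) := by group
      _ = b * a * b := by rw [ha, mul_one]
  have h1 : Commute (c⁻¹ * C.x 0) (d⁻¹ * C.x l) := by
    rw [hinv _ _ (C.sq 0) (C.sq k), hinv _ _ (C.sq l) (C.sq k)]
    have := Commute.map h0l (MulAut.conj (C.x k)).toMonoidHom
    simpa [C.inv_x] using this
  have h2 : Commute c⁻¹ (C.x l) := commute_cancel h1 h0l
    (C.commute_blk (fun a b b' => hk.com _ _ (by omega) (by omega)) (inv_mem hd)).symm
    (C.blk_commute_blk hk.com (inv_mem hd) (inv_mem hc) (by omega) (by omega))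
  have h3 : Commute (C.x l) (c * C.x (i + m)) :=
    C.commute_blk (fun a b b' => hk.com _ _ (by omega) (by omega)) he
  refine C.not_commute_shift hk.ncomm (i := l) (j := i + m) (by omega) ?_
  have := h2.symm.mul_right h3
  rwa [inv_mul_cancel_left] at this

theorem IsGap.bounds (hk : C.IsGap k) : 2 * C.n ≤ 3 * k ∧
    C.x 0 * C.x k * C.x 0 * C.x k ∈ blk C.x ((C.n : ℤ) - k) (3 * k + 1 - 2 * C.n) := by
  have hpos := hk.pos
  have hlt := hk.lt
  have hlow : ∀ t : ℕ, t + k + 1 ≤ C.n → t + 1 ≤ k →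
      C.x 0 * C.x k * C.x 0 * C.x k ∈ blk C.x (1 + t) (k - 1 - t) := by
    intro t
    induction t with
    | zero => intro _ _; simpa using hk.c_mem
    | succ t ih =>
      intro h1 h2
      have := hk.low_step (i := 1 + t) (m := k - 1 - (t + 1)) (by omega) (by omega) (by omega)
        (by rw [show k - 1 - (t + 1) + 1 = k - 1 - t by omega]; exact ih (by omega) (by omega))
      rwa [show (1 : ℤ) + (t : ℕ) + 1 = 1 + ((t + 1 : ℕ) : ℤ) by push_cast; ring] at this
  have hnk : C.n < 2 * k := by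
    by_contra h
    have := hlow (k - 1) (by omega) (by omega)
    rw [Nat.sub_self, C.blk_zero, Subgroup.mem_bot] at this
    exact hk.c_ne_one this
  have hmid : C.x 0 * C.x k * C.x 0 * C.x k ∈ blk C.x ((C.n : ℤ) - k) (2 * k - C.n) := by
    have := hlow (C.n - k - 1) (by omega) (by omega)
    rwa [show (1 : ℤ) + ((C.n - k - 1 : ℕ) : ℤ) = (C.n : ℤ) - k by omega,
      show k - 1 - (C.n - k - 1) = 2 * k - C.n by omega] at this
  have hhigh : ∀ s : ℕ, 3 * k + 1 - 2 * C.n + s ≤ 2 * k - C.n →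
      C.x 0 * C.x k * C.x 0 * C.x k ∈ blk C.x ((C.n : ℤ) - k) (2 * k - C.n - s) := by
    intro s
    induction s with
    | zero => intro _; simpa using hmid
    | succ s ih =>
      intro hs
      exact hk.high_step (i := (C.n : ℤ) - k) (m := 2 * k - C.n - (s + 1)) (by omega) (by omega) (by omega)
        (by rw [show 2 * k - C.n - (s + 1) + 1 = 2 * k - C.n - s by omega]; exact ih (by omega))
  have hfin := hhigh (2 * k - C.n - (3 * k + 1 - 2 * C.n)) (by omega)
  rw [show 2 * k - C.n - (2 * k - C.n - (3 * k + 1 - 2 * C.n)) = 3 * k + 1 - 2 * C.n by omega] at hfin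
  refine ⟨?_, hfin⟩
  by_contra h
  rw [show 3 * k + 1 - 2 * C.n = 0 by omega, C.blk_zero, Subgroup.mem_bot] at hfin
  exact hk.c_ne_one hfin

theorem IsGap.upper (hk : C.IsGap k) : 2 * k ≤ C.n + 2 := by
  by_contra h
  have := hk.lt
  refine C.x_ne_one (by omega) ((C.n : ℤ) - k + 2)
    (C.eq_one_of_central (C.mem_blk (by omega) (by push_cast; omega)) fun l h1 h2 => ?_)
  exact hk.com _ _ (by omega) (by omega)

theorem not_six (hn : C.n = 6) (hk : C.IsGap 4) : False := by
  have hc : C.x 0 * C.x 4 * C.x 0 * C.x 4 = C.x 2 := by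
    have h := hk.bounds.2
    rw [hn] at h
    norm_num at h
    rcases C.split_left (m := 0) (by omega) h with h | h
    · rw [C.blk_zero, Subgroup.mem_bot] at h
      exact absurd h (by simpa using hk.c_ne_one)
    · rw [C.blk_zero, Subgroup.mem_bot, mul_eq_one_iff_eq_inv] at h
      rw [← inv_inv (C.x 0 * C.x 4 * C.x 0 * C.x 4), ← h, C.inv_x]
  have hcom := hk.com
  have r04 : C.x 0 * C.x 4 * C.x 0 = C.x 2 * C.x 4 := by
    rw [← hc, mul_assoc _ (C.x 4) (C.x 4), C.sq, mul_one]
  have r26 : C.x 6 * C.x 2 * C.x 6 = C.x 2 * C.x 4 := by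
    have h : C.x 2 * C.x 6 * C.x 2 * C.x 6 = C.x 4 := by
      have := congrArg (fun y => C.g ^ (2 : ℤ) * y * (C.g ^ (2 : ℤ))⁻¹) hc
      simp only [← MulAut.conj_apply, map_mul] at this
      simp only [MulAut.conj_apply, C.conj_zpow_x] at this
      simpa using this
    calc C.x 6 * C.x 2 * C.x 6 = C.x 2 * C.x 2 * (C.x 6 * C.x 2 * C.x 6) := by rw [C.sq, one_mul]
      _ = C.x 2 * (C.x 2 * C.x 6 * C.x 2 * C.x 6) := by group
      _ = C.x 2 * C.x 4 := by rw [h]
  set σ := C.x 6 * C.x 0 with hσ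
  have hσinv : σ⁻¹ = C.x 0 * C.x 6 := by rw [hσ, mul_inv_rev, C.inv_x, C.inv_x]
  have hσ4 : σ * C.x 4 * σ⁻¹ = C.x 2 := by
    calc σ * C.x 4 * σ⁻¹ = C.x 6 * (C.x 0 * C.x 4 * C.x 0) * C.x 6 := by rw [hσinv, hσ]; group
      _ = C.x 6 * (C.x 6 * C.x 2 * C.x 6) * C.x 6 := by rw [r04, r26]
      _ = C.x 6 * C.x 6 * C.x 2 * (C.x 6 * C.x 6) := by group
      _ = C.x 2 := by rw [C.sq, one_mul, mul_one]
  have hn1 : (C.n + 1 : ℕ) = 7 := by omega
  -- centralisers of `x 4` and `x 2`
  have hcent : ∀ i : ℤ, i ≤ 1 → -1 ≤ i →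
      Subgroup.centralizer ({C.x (i + 3)} : Set G) = blk C.x i 7 := by
    intro i hi1 hi2
    refine ((hn1 ▸ C.isCoatom_blk i).le_iff.1 (C.blk_le fun l h1 h2 => ?_)).resolve_left ?_
    · rw [Subgroup.mem_centralizer_singleton_iff]
      exact (hcom _ _ (by push_cast at h2; omega) (by push_cast at h2; omega)).eq
    · intro htop
      refine C.x_ne_one (by omega) (i + 3)
        (C.eq_one_of_central (C.mem_blk (by omega) (by push_cast; omega)) fun l _ _ => ?_)
      have : C.x l ∈ Subgroup.centralizer ({C.x (i + 3)} : Set G) := htop ▸ Subgroup.mem_top _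
      rw [Subgroup.mem_centralizer_singleton_iff] at this
      exact this.symm
  have h4 := hcent 1 le_rfl (by omega)
  have h2 := hcent (-1) (by omega) le_rfl
  norm_num at h4 h2
  have hmove : cg σ (blk C.x 1 7) = blk C.x (-1) 7 := by
    rw [← h4, ← h2, ← hσ4]
    ext y
    rw [mem_cg, Subgroup.mem_centralizer_singleton_iff, Subgroup.mem_centralizer_singleton_iff]
    constructor
    · intro e
      have := congrArg (fun z => σ * z * σ⁻¹) e
      simpa [mul_assoc] using this
    · intro e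
      have := congrArg (fun z => σ⁻¹ * z * σ) e
      simpa [mul_assoc] using this
  set H := blk C.x 0 7 with hH
  have hτ : C.g * σ * C.g ∈ H := by
    have h := C.normalizer_eq
    rw [hn1] at h
    rw [hH, ← h]
    refine mem_normalizer_of_cg ?_
    rw [cg_mul, cg_mul]
    have e1 : cg C.g H = blk C.x 1 7 := by simpa using C.cg_blk 1 0 7
    have e2 : cg C.g (blk C.x (-1) 7) = H := by simpa using C.cg_blk 1 (-1) 7
    rw [e1, hmove, e2]
  have hZn : ∀ y, y = C.x 0 ∨ y = C.x 6 → y ∈ Subgroup.normalizer (blk C.x 2 3 : Set G) := by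
    rintro y (rfl | rfl) <;> refine invol_mem_normalizer rfl (C.sq _) ?_ <;> rintro _ ⟨l, hl, rfl⟩
    · obtain ⟨h1, h2⟩ := hl
      push_cast at h2
      rcases (show l = 4 ∨ l < 4 by omega) with rfl | h3
      · rw [r04]; exact mul_mem (C.mem_blk (by omega) (by omega)) (C.mem_blk (by omega) (by omega))
      · rw [(hcom 0 l (by omega) (by omega)).eq, mul_assoc, C.sq, mul_one]
        exact C.mem_blk h1 (by push_cast; omega)
    · obtain ⟨h1, h2⟩ := hl
      push_cast at h2
      rcases (show l = 2 ∨ 2 < l by omega) with rfl | h3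
      · rw [r26]; exact mul_mem (C.mem_blk (by omega) (by omega)) (C.mem_blk (by omega) (by omega))
      · rw [(hcom 6 l (by omega) (by omega)).eq, mul_assoc, C.sq, mul_one]
        exact C.mem_blk h1 (by push_cast; omega)
  -- the core `D`
  have hD : H ≤ Subgroup.normalizer (blk C.x 1 5 : Set G) := C.blk_le fun l h1 h2 => by
    push_cast at h2
    rcases (show l = 6 ∨ l < 6 by omega) with rfl | h3
    · exact le_normalizer_of_card_two_mul (C.blk_mono (i' := 1) (m' := 6) le_rfl (by omega))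
        (by rw [C.card_blk' _ (by omega), C.card_blk' _ (by omega)]; norm_num)
        (C.mem_blk (by omega) (by omega))
    · exact le_normalizer_of_card_two_mul (C.blk_mono (i' := 0) (m' := 6) (by omega) (by omega))
        (by rw [C.card_blk' _ (by omega), C.card_blk' _ (by omega)]; norm_num)
        (C.mem_blk h1 (by push_cast; omega))
  -- `x 0` fixes `x 5` modulo the centre
  set e := C.x 0 * C.x 5 * C.x 0 * C.x 5 with he
  have heD : e ∈ blk C.x 1 4 := C.comm_mem (i := 0) (j := 5) (d := 4) (by omega) (by norm_num)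
  have heZ : e ∈ blk C.x 2 3 := by
    refine (C.split_left (i := 1) (m := 3) (by omega) heD).resolve_right fun hz => ?_
    refine C.not_commute_shift hk.ncomm (i := 1) (j := 5) (by norm_num) ?_
    set z := C.x 1 * e with hzdef
    have hw : C.x 1 * z * C.x 5 = C.x 0 * C.x 5 * C.x 0 := by
      rw [hzdef, ← mul_assoc, C.sq, one_mul, he, mul_assoc _ (C.x 5) (C.x 5), C.sq, mul_one]
    have hw2 : C.x 1 * z * C.x 5 * (C.x 1 * z * C.x 5) = 1 := by
      rw [hw, show C.x 0 * C.x 5 * C.x 0 * (C.x 0 * C.x 5 * C.x 0) =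
        C.x 0 * C.x 5 * (C.x 0 * C.x 0) * C.x 5 * C.x 0 by group, C.sq, mul_one,
        mul_assoc (C.x 0), C.sq, mul_one, C.sq]
    have hz1 : Commute (C.x 1) z := C.commute_blk (fun l a b => hcom _ _ (by omega) (by omega)) hz
    have hz5 : Commute (C.x 5) z := C.commute_blk (fun l a b => hcom _ _ (by omega) (by omega)) hz
    have hzz : z * z = 1 := C.blk_sq hcom (by omega) hz
    have h15 : C.x 1 * C.x 5 * (C.x 1 * C.x 5) = 1 := by
      calc C.x 1 * C.x 5 * (C.x 1 * C.x 5) = z * z * (C.x 1 * C.x 5 * (C.x 1 * C.x 5)) := by rw [hzz, one_mul]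
        _ = z * (z * C.x 1) * C.x 5 * C.x 1 * C.x 5 := by group
        _ = z * (C.x 1 * z) * C.x 5 * C.x 1 * C.x 5 := by rw [hz1.eq]
        _ = z * C.x 1 * (z * C.x 5) * C.x 1 * C.x 5 := by group
        _ = z * C.x 1 * (C.x 5 * z) * C.x 1 * C.x 5 := by rw [hz5.eq]
        _ = (C.x 1 * z) * C.x 5 * (z * C.x 1) * C.x 5 := by rw [hz1.eq]; group
        _ = (C.x 1 * z) * C.x 5 * (C.x 1 * z) * C.x 5 := by rw [← hz1.eq]
        _ = 1 := by rw [← hw2]; group
    rw [mul_eq_one_iff_eq_inv, mul_inv_rev, C.inv_x, C.inv_x] at h15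
    exact h15
  set z' := C.x 6 * e * C.x 6 with hz'
  have hz'Z : z' ∈ blk C.x 2 3 := by
    have := (Subgroup.mem_normalizer_iff.1 (hZn _ (Or.inr rfl)) e).1 heZ
    rwa [C.inv_x] at this
  have hσ5 : σ * C.x 5 * σ⁻¹ = z' * C.x 5 := by
    calc σ * C.x 5 * σ⁻¹ = C.x 6 * (C.x 0 * C.x 5 * C.x 0) * C.x 6 := by rw [hσinv, hσ]; group
      _ = C.x 6 * (e * C.x 5) * C.x 6 := by rw [he, mul_assoc _ (C.x 5) (C.x 5), C.sq, mul_one]
      _ = C.x 6 * e * (C.x 5 * C.x 6) := by group
      _ = C.x 6 * e * (C.x 6 * C.x 5) := by rw [(hcom 5 6 (by omega) (by omega)).eq]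
      _ = z' * C.x 5 := by rw [hz']; group
  have hin : σ * C.x 5 * σ⁻¹ ∈ blk C.x 0 5 := by
    have hu : C.g⁻¹ * C.x 5 * C.g = C.x 4 := by
      have := C.shift 4
      norm_num at this
      rw [← this]; group
    have h : C.g * σ * C.x 5 * (C.g * σ)⁻¹ ∈ blk C.x 1 5 := by
      have := (Subgroup.mem_normalizer_iff.1 (hD hτ) (C.x 4)).1 (C.mem_blk (by omega) (by omega))
      rw [← hu] at this
      convert this using 1
      group
    have e1 : cg C.g (blk C.x 0 5) = blk C.x 1 5 := by simpa using C.cg_blk 1 0 5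
    rw [← e1, mem_cg] at h
    convert h using 1
    group
  rw [hσ5] at hin
  have : C.x 5 ∈ blk C.x 0 5 := by
    have hz05 : z' ∈ blk C.x 0 5 := C.blk_mono (by omega) (by omega) hz'Z
    simpa using mul_mem (inv_mem hz05) hin
  exact C.right_notMem (i := 0) (m := 5) (by omega) (by simpa using this)

variable (C)

theorem n_le_four : C.n ≤ 4 := by
  by_contra h
  push Not at h
  obtain ⟨k, hk⟩ := C.exists_gap (by omega)
  have h1 := hk.bounds.1
  have h2 := hk.upper
  obtain ⟨hn, rfl⟩ : C.n = 6 ∧ k = 4 := by omega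
  exact not_six hn hk

end Chain

end Cfsg.Agent.H81.Cubic
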