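import Mathlib
import Cfsg.Prelude.Def_Local
import Cfsg.Prelude.Def_EvenType
import Cfsg.Agent.H51.FStar

/-!
The Thompson–Wielandt theorem: for two distinct conjugate core-free maximal subgroups `H`, `K`
with non-trivial second cores, the second cores are `p`-groups and `F*(H) = O_p(H)`.
-/

set_option autoImplicit false

namespace Cfsg.Agent.H81.TW

open Subgroup

variable {G : Type*} [Group G]

/-- `O_p(H)` as a subgroup of the ambient group. -/
def opOf (p : ℕ) (H : Subgroup G) : Subgroup G := (Cfsg.pCore p H).map H.subtype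

/-- The largest subgroup of `X ⊓ H` normalized by `H`. -/
def inCore (H X : Subgroup G) : Subgroup G := (X.subgroupOf H).normalCore.map H.subtype

/-- The subgroup generated by the elements of `R` of order prime to `p`. -/
def pResidual (p : ℕ) (R : Subgroup G) : Subgroup G :=
  closure {g : G | g ∈ R ∧ ¬ p ∣ orderOf g}

theorem inCore_le_left (H X : Subgroup G) : inCore H X ≤ H := map_subtype_le _

theorem inCore_le_right (H X : Subgroup G) : inCore H X ≤ X := by
  rintro _ ⟨x, hx, rfl⟩
  exact mem_subgroupOf.mp (Subgroup.normalCore_le (X.subgroupOf H) hx)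

theorem le_normalizer_inCore (H X : Subgroup G) : H ≤ normalizer (inCore H X : Set G) := by
  intro h hh
  rw [mem_normalizer_iff]
  intro g
  constructor
  · rintro ⟨x, hx, rfl⟩
    exact ⟨⟨h, hh⟩ * x * ⟨h, hh⟩⁻¹, (Subgroup.normalCore_normal _).conj_mem x hx _, rfl⟩
  · rintro ⟨x, hx, he⟩
    refine ⟨⟨h, hh⟩⁻¹ * x * ⟨h, hh⟩, by simpa using (Subgroup.normalCore_normal _).conj_mem x hx ⟨h, hh⟩⁻¹, ?_⟩
    simp only [coe_subtype] at he ⊢
    simp only [coe_mul, coe_inv, he]
    group

theorem le_inCore {H X Y : Subgroup G} (hH : Y ≤ H) (hX : Y ≤ X)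
    (hn : H ≤ normalizer (Y : Set G)) : Y ≤ inCore H X := by
  haveI : (Y.subgroupOf H).Normal := (normal_subgroupOf_iff_le_normalizer hH).mpr hn
  intro y hy
  refine ⟨⟨y, hH hy⟩, ?_, rfl⟩
  exact (Subgroup.normal_le_normalCore.mpr (show Y.subgroupOf H ≤ X.subgroupOf H from comap_mono hX)) hy

theorem opOf_le (p : ℕ) (H : Subgroup G) : opOf p H ≤ H := map_subtype_le _

theorem isPGroup_opOf [Finite G] (p : ℕ) (H : Subgroup G) : IsPGroup p (opOf p H) :=
  (Cfsg.Agent.H51.pCore_isPGroup p H).map _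

theorem le_normalizer_opOf (p : ℕ) (H : Subgroup G) : H ≤ normalizer (opOf p H : Set G) := by
  haveI := Cfsg.Agent.H51.pCore_normal p H
  intro h hh
  rw [mem_normalizer_iff]
  intro g
  constructor
  · rintro ⟨x, hx, rfl⟩
    exact ⟨⟨h, hh⟩ * x * ⟨h, hh⟩⁻¹, (Cfsg.Agent.H51.pCore_normal p H).conj_mem x hx _, rfl⟩
  · rintro ⟨x, hx, he⟩
    refine ⟨⟨h, hh⟩⁻¹ * x * ⟨h, hh⟩, by simpa using (Cfsg.Agent.H51.pCore_normal p H).conj_mem x hx ⟨h, hh⟩⁻¹, ?_⟩
    simp only [coe_subtype] at he ⊢
    simp only [coe_mul, coe_inv, he]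
    group

theorem le_opOf {p : ℕ} {H V : Subgroup G} (hH : V ≤ H) (hV : IsPGroup p V)
    (hn : H ≤ normalizer (V : Set G)) : V ≤ opOf p H := by
  have h1 : (V.subgroupOf H).Normal := (normal_subgroupOf_iff_le_normalizer hH).mpr hn
  intro v hv
  exact ⟨⟨v, hH hv⟩,
    Cfsg.Agent.H51.le_pCore h1 (hV.of_equiv (subgroupOfEquivOfLe hH).symm) hv, rfl⟩

theorem opOf_map_conj [Finite G] (p : ℕ) (H : Subgroup G) (g : G) :
    (opOf p H).map (MulAut.conj g).toMonoidHom = opOf p (H.map (MulAut.conj g).toMonoidHom) := by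
  have h : Cfsg.pCore p ↥(H.map (MulAut.conj g).toMonoidHom) =
      (Cfsg.pCore p H).map ((MulAut.conj g).subgroupMap H).toMonoidHom :=
    (Cfsg.Agent.H51.pCore_map_equiv p ((MulAut.conj g).subgroupMap H)).symm
  rw [opOf, opOf, h]
  ext x
  constructor
  · rintro ⟨y, ⟨z, hz, rfl⟩, rfl⟩
    exact ⟨_, ⟨z, hz, rfl⟩, rfl⟩
  · rintro ⟨y, ⟨z, hz, rfl⟩, rfl⟩
    exact ⟨_, ⟨z, hz, rfl⟩, rfl⟩

theorem normalizer_le_normalizer_opOf [Finite G] (p : ℕ) (B : Subgroup G) :
    normalizer (B : Set G) ≤ normalizer (opOf p B : Set G) := by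
  intro n hn
  have hB : ∀ x, x ∈ B ↔ n * x * n⁻¹ ∈ B := mem_normalizer_iff.mp hn
  have hmap : B.map (MulAut.conj n).toMonoidHom = B := by
    ext x
    constructor
    · rintro ⟨y, hy, rfl⟩; exact (hB y).mp hy
    · intro hx
      refine ⟨n⁻¹ * x * n, (hB _).mpr (by simpa [mul_assoc] using hx), by simp [mul_assoc]⟩
  have h := opOf_map_conj p B n
  rw [hmap] at h
  rw [mem_normalizer_iff]
  intro x
  constructor
  · intro hx; exact h ▸ ⟨x, hx, rfl⟩
  · intro hx
    rw [← h] at hx
    obtain ⟨y, hy, hye⟩ := hx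
    have : y = x := by simpa using hye
    exact this ▸ hy

theorem pResidual_le (p : ℕ) (R : Subgroup G) : pResidual p R ≤ R :=
  (closure_le _).mpr fun _ h => h.1

theorem mem_pResidual {p : ℕ} {R : Subgroup G} {g : G} (hg : g ∈ R) (hp : ¬ p ∣ orderOf g) :
    g ∈ pResidual p R := subset_closure ⟨hg, hp⟩

theorem le_normalizer_pResidual (p : ℕ) (R : Subgroup G) :
    normalizer (R : Set G) ≤ normalizer (pResidual p R : Set G) := by
  have key : ∀ n ∈ normalizer (R : Set G), ∀ x ∈ pResidual p R, n * x * n⁻¹ ∈ pResidual p R := by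
    intro n hn x hx
    induction hx using closure_induction with
    | mem y hy =>
      refine mem_pResidual ((mem_normalizer_iff.mp hn y).mp hy.1) ?_
      rw [← MulAut.conj_apply, MulEquiv.orderOf_eq]
      exact hy.2
    | one => simp [one_mem]
    | mul a b _ _ ha hb => simpa [mul_assoc] using mul_mem ha hb
    | inv a _ ha => simpa [mul_assoc] using inv_mem ha
  intro n hn
  rw [mem_normalizer_iff]
  refine fun x => ⟨key n hn x, fun hx => ?_⟩
  have := key n⁻¹ (inv_mem hn) _ hx
  simpa [mul_assoc] using this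

theorem pResidual_idem (p : ℕ) (R : Subgroup G) :
    pResidual p (pResidual p R) = pResidual p R :=
  le_antisymm (pResidual_le _ _) ((closure_le _).mpr fun _ h =>
    mem_pResidual (subset_closure h) h.2)

theorem isPGroup_of_pResidual_eq_bot [Finite G] {p : ℕ} (hp : p.Prime) {R : Subgroup G}
    (h : pResidual p R = ⊥) : IsPGroup p R := by
  intro x
  refine ⟨(orderOf x).factorization p, Subtype.ext ?_⟩
  have hmem : (x : G) ^ p ^ (orderOf x).factorization p ∈ pResidual p R := by
    refine mem_pResidual (R.pow_mem x.2 _) ?_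
    rw [orderOf_pow_of_dvd (pow_ne_zero _ hp.ne_zero)]
    · rw [Subgroup.orderOf_coe]
      exact Nat.not_dvd_ordCompl hp (orderOf_pos x).ne'
    · rw [Subgroup.orderOf_coe]
      exact Nat.ordProj_dvd _ _
  rwa [h, Subgroup.mem_bot] at hmem

/-- An element of order prime to `p` that lies in `N W`, `W` a normalizing `p`-element, lies in `N`. -/
theorem mem_of_mul_pElement [Finite G] {p : ℕ} (hp : p.Prime) {N : Subgroup G} {r w : G}
    (hr : r ∈ N) (hw : w ∈ normalizer (N : Set G)) (hwp : ∃ k, w ^ p ^ k = 1)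
    (hg : ¬ p ∣ orderOf (r * w)) : r * w ∈ N := by
  obtain ⟨k, hk⟩ := hwp
  have hpow : ∀ j : ℕ, (r * w) ^ j * (w ^ j)⁻¹ ∈ N := by
    intro j
    induction j with
    | zero => simp [one_mem]
    | succ j ih =>
      have h1 : w ^ j * r * (w ^ j)⁻¹ ∈ N := (mem_normalizer_iff.mp (pow_mem hw j) r).mp hr
      have := mul_mem ih h1
      convert this using 1
      rw [pow_succ, pow_succ]
      group
  have h := hpow (p ^ k)
  rw [hk, inv_one, mul_one] at h
  have hcop : (orderOf (r * w)).Coprime (p ^ k) :=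
    Nat.Coprime.pow_right _ ((Nat.Prime.coprime_iff_not_dvd hp).mpr hg).symm
  obtain ⟨m, hm⟩ := exists_pow_eq_self_of_coprime hcop.symm
  rw [← hm]
  exact pow_mem h m

/-- If the `p`-group `W` normalizes the `p`-group `U` and `U ∩ N(W) ≤ W`, then `U ≤ W`. -/
theorem le_of_inf_normalizer_le [Finite G] {p : ℕ} [Fact p.Prime] {U W : Subgroup G}
    (hW : IsPGroup p W) (hU : IsPGroup p U) (hWU : W ≤ normalizer (U : Set G))
    (hinf : U ⊓ normalizer (W : Set G) ≤ W) : U ≤ W := by
  have hPp : IsPGroup p ↥(U ⊔ W) := hU.to_sup_of_normal_left' hW hWU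
  haveI : Group.IsNilpotent ↥(U ⊔ W) := hPp.isNilpotent
  by_contra hle
  have hlt : W.subgroupOf (U ⊔ W) < ⊤ :=
    lt_top_iff_ne_top.mpr fun e => hle (le_sup_left.trans (Subgroup.subgroupOf_eq_top.mp e))
  obtain ⟨x, hx, hxW⟩ := SetLike.exists_of_lt (Group.normalizerCondition_of_isNilpotent _ hlt)
  apply hxW
  have hxN : (x : G) ∈ normalizer (W : Set G) := by
    rw [mem_normalizer_iff]
    intro w
    constructor
    · intro hw
      exact (mem_normalizer_iff.mp hx ⟨w, (le_sup_right : W ≤ U ⊔ W) hw⟩).mp hw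
    · intro hw
      have hmem : w ∈ U ⊔ W := by
        have hh := mul_mem (mul_mem (inv_mem x.2) ((le_sup_right : W ≤ U ⊔ W) hw)) x.2
        convert hh using 1
        group
      exact (mem_normalizer_iff.mp hx ⟨w, hmem⟩).mpr hw
  obtain ⟨u, hu, w, hw, huw⟩ : ∃ u ∈ U, ∃ w ∈ W, u * w = (x : G) := by
    have hx2 : (x : G) ∈ ((U ⊔ W : Subgroup G) : Set G) := x.2
    rw [Subgroup.coe_mul_of_right_le_normalizer_left U W hWU] at hx2
    exact Set.mem_mul.mp hx2
  have huN : u ∈ normalizer (W : Set G) := by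
    have := mul_mem hxN (inv_mem (le_normalizer hw))
    rwa [← huw, mul_inv_cancel_right] at this
  rw [mem_subgroupOf, ← huw]
  exact mul_mem (hinf ⟨hu, huN⟩) hw

/-- Index of the core of `A ⊓ B`, `A` normal, `B` normalized by `D ≥ A`. -/
theorem normalCore_inf_index_dvd {X : Type*} [Group X] [Finite X] (A B D : Subgroup X) [hA : A.Normal]
    (hAD : A ≤ D) (hDB : D ≤ normalizer (B : Set X)) :
    (A ⊓ B).normalCore.index ∣ A.index * (B.relIndex A) ^ D.index := by
  haveI : (B.subgroupOf A).Normal := normal_subgroupOf_of_le_normalizer (hAD.trans hDB)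
  let f : A →* ((X ⧸ D) → A ⧸ B.subgroupOf A) :=
    MonoidHom.pi fun q => (QuotientGroup.mk' _).comp
      (MulAut.conjNormal (q.out : X)⁻¹).toMonoidHom
  have hker : f.ker.map A.subtype ≤ (A ⊓ B).normalCore := by
    rintro _ ⟨⟨a, ha⟩, hker, rfl⟩
    intro x
    refine ⟨hA.conj_mem a ha x, ?_⟩
    have hq := congrFun (MonoidHom.mem_ker.mp hker) (QuotientGroup.mk x⁻¹)
    obtain ⟨⟨dd, hdd⟩, hd⟩ := QuotientGroup.mk_out_eq_mul D x⁻¹
    have hq' : (x⁻¹ * dd)⁻¹ * a * (x⁻¹ * dd) ∈ B := by
      have := (QuotientGroup.eq_one_iff _).mp hq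
      rw [mem_subgroupOf] at this
      simpa [hd, mul_assoc] using this
    have hmem := (mem_normalizer_iff.mp (hDB hdd) _).mp hq'
    have he : dd * ((x⁻¹ * dd)⁻¹ * a * (x⁻¹ * dd)) * dd⁻¹ = x * a * x⁻¹ := by group
    rw [he] at hmem
    exact hmem
  refine (index_dvd_of_le hker).trans ?_
  rw [index_map_subtype, index_ker, mul_comm]
  refine Nat.mul_dvd_mul_left _ ((card_subgroup_dvd_card f.range).trans (dvd_of_eq ?_))
  rw [Nat.card_fun]
  rfl

theorem normalCore_index_dvd_factorial {X : Type*} [Group X] [Finite X] (D : Subgroup X) :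
    D.normalCore.index ∣ D.index.factorial := by
  rw [normalCore_eq_ker, index_ker]
  exact (card_subgroup_dvd_card _).trans (dvd_of_eq (Nat.card_perm))

theorem inCore_subgroupOf (H X : Subgroup G) :
    (inCore H X).subgroupOf H = (X.subgroupOf H).normalCore :=
  comap_map_eq_self_of_injective H.subtype_injective _

/-- Two distinct conjugate core-free maximal subgroups. -/
structure IsPair (H K : Subgroup G) : Prop where
  maxH : IsCoatom H
  maxK : IsCoatom K
  ne : H ≠ K
  coreH : H.normalCore = ⊥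
  coreK : K.normalCore = ⊥
  conj : ∃ g : G, K = H.map (MulAut.conj g).toMonoidHom

variable {H K : Subgroup G}

/-- The first core: the largest subgroup of `H ⊓ K` normalized by `H`. -/
def core1 (H K : Subgroup G) : Subgroup G := inCore H (H ⊓ K)

/-- The second core. -/
def core2 (H K : Subgroup G) : Subgroup G := inCore H (core1 H K ⊓ core1 K H)

namespace IsPair

theorem symm (h : IsPair H K) : IsPair K H := by
  refine ⟨h.maxK, h.maxH, h.ne.symm, h.coreK, h.coreH, ?_⟩
  obtain ⟨g, hg⟩ := h.conj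
  refine ⟨g⁻¹, ?_⟩
  rw [hg, Subgroup.map_map]
  ext x
  simp [mul_assoc]

theorem normalizer_eq (h : IsPair H K) {X : Subgroup G} (hX : X ≤ H) (hne : X ≠ ⊥)
    (hn : H ≤ normalizer (X : Set G)) : normalizer (X : Set G) = H := by
  rcases eq_or_lt_of_le hn with he | hlt
  · exact he.symm
  · exfalso
    haveI : X.Normal := Subgroup.normalizer_eq_top_iff.mp (h.maxH.2 _ hlt)
    exact hne (le_bot_iff.mp (h.coreH ▸ Subgroup.normal_le_normalCore.mpr hX))

theorem eq_bot_of_common (h : IsPair H K) {X : Subgroup G} (hX : X ≤ H)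
    (hH : H ≤ normalizer (X : Set G)) (hK : K ≤ normalizer (X : Set G)) : X = ⊥ := by
  by_contra hne
  rw [h.normalizer_eq hX hne hH] at hK
  rcases eq_or_lt_of_le hK with he | hlt
  · exact h.ne he.symm
  · exact h.maxH.1 (h.maxK.2 _ hlt)

theorem core1_le (H K : Subgroup G) : core1 H K ≤ H ⊓ K := inCore_le_right _ _

theorem core2_le (H K : Subgroup G) : core2 H K ≤ core1 H K ⊓ core1 K H := inCore_le_right _ _

theorem le_core1 {Y : Subgroup G} (hH : Y ≤ H) (hK : Y ≤ K) (hn : H ≤ normalizer (Y : Set G)) :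
    Y ≤ core1 H K := le_inCore hH (le_inf hH hK) hn

section Finite

variable [Finite G]

/-- Key step: if `O^p` of the second core is non-trivial, then `O_p(H) = 1`. -/
theorem isPGroup_core2 (h : IsPair H K) {p : ℕ} (hp : p.Prime) (hU : opOf p H ≠ ⊥) :
    IsPGroup p (core2 H K) := by
  haveI : Fact p.Prime := ⟨hp⟩
  by_contra hnot
  set R := pResidual p (core2 H K) with hRdef
  have hR0 : R ≠ ⊥ := fun e => hnot (isPGroup_of_pResidual_eq_bot hp e)
  have hR2 : R ≤ core2 H K := pResidual_le _ _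
  have hRB : R ≤ core1 K H := hR2.trans ((core2_le H K).trans inf_le_right)
  have hBK : core1 K H ≤ K := (core1_le K H).trans inf_le_left
  have hBH : core1 K H ≤ H := (core1_le K H).trans inf_le_right
  have hRH : R ≤ H := hRB.trans hBH
  have hHR : H ≤ normalizer (R : Set G) := (le_normalizer_inCore _ _).trans (le_normalizer_pResidual _ _)
  have hNR : normalizer (R : Set G) = H := h.normalizer_eq hRH hR0 hHR
  have hKB : K ≤ normalizer (core1 K H : Set G) := le_normalizer_inCore _ _
  set U := opOf p H with hUdef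
  set W := opOf p K with hWdef
  have hWK : W ≤ K := opOf_le p K
  have hKW : K ≤ normalizer (W : Set G) := le_normalizer_opOf p K
  have hWp : IsPGroup p W := isPGroup_opOf p K
  have hUH : U ≤ H := opOf_le p H
  have hUp : IsPGroup p U := isPGroup_opOf p H
  have hwpow : ∀ w ∈ W, ∃ k, w ^ p ^ k = 1 := fun w hw => by
    obtain ⟨k, hk⟩ := hWp ⟨w, hw⟩
    exact ⟨k, congrArg Subtype.val hk⟩
  have hgen : ∀ {k : G}, (∀ x ∈ R, ¬ p ∣ orderOf x → k * x * k⁻¹ ∈ R) → k ∈ normalizer (R : Set G) := by
    intro k hk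
    have hle : R.map (MulAut.conj k).toMonoidHom ≤ R := by
      rw [Subgroup.map_le_iff_le_comap]
      conv_lhs => rw [show R = pResidual p R from (pResidual_idem p _).symm]
      exact (closure_le _).mpr fun x hx => hk x hx.1 hx.2
    have heq : R.map (MulAut.conj k).toMonoidHom = R := Subgroup.eq_of_le_of_card_ge hle
      (le_of_eq (Subgroup.card_map_of_injective (MulAut.conj k).injective).symm)
    rw [mem_normalizer_iff]
    intro x
    constructor
    · intro hx; exact heq ▸ ⟨x, hx, rfl⟩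
    · intro hx
      rw [← heq] at hx
      obtain ⟨y, hy, hye⟩ := hx
      have : y = x := by simpa using hye
      exact this ▸ hy
  -- elements of order prime to `p` in `R W`, lying in the first core of `K`, are in `R`
  have hsplit : ∀ r ∈ R, ∀ w ∈ W, r * w ∈ core1 K H → ¬ p ∣ orderOf (r * w) → r * w ∈ R := by
    intro r hr w hw hrw hord
    have hwB : w ∈ core1 K H := by
      have := mul_mem (inv_mem (hRB hr)) hrw
      rwa [inv_mul_cancel_left] at this
    exact mem_of_mul_pElement hp hr (hHR (hBH hwB)) (hwpow w hw) hord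
  have hWH : W ≤ H := fun w hw => by
    rw [← hNR]
    refine hgen fun x hx hord => ?_
    have hB : w * x * w⁻¹ ∈ core1 K H := (mem_normalizer_iff.mp (hKB (hWK hw)) x).mp (hRB hx)
    have he : w * x * w⁻¹ = x * (x⁻¹ * w * x * w⁻¹) := by group
    have hmem : x⁻¹ * w * x * w⁻¹ ∈ W := by
      refine mul_mem ?_ (inv_mem hw)
      have := (mem_normalizer_iff.mp (inv_mem (hKW (hBK (hRB hx)))) w).mp hw
      rwa [inv_inv] at this
    rw [he] at hB ⊢
    refine hsplit x hx _ hmem hB ?_
    rw [← he, ← MulAut.conj_apply, MulEquiv.orderOf_eq]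
    exact hord
  have hWB : W ≤ core1 K H := le_core1 hWK hWH hKW
  -- `p`-subgroups of `H ⊓ K` normalized by it lie in `W`
  have hsub : ∀ V : Subgroup G, V ≤ H ⊓ K → IsPGroup p V →
      H ⊓ K ≤ normalizer (V : Set G) → V ≤ W := by
    intro V hV hVp hVn
    set B := core1 K H with hBdef
    have hBD : B ≤ H ⊓ K := le_inf hBH hBK
    have hopB : opOf p B ≤ W := le_opOf ((opOf_le p B).trans hBK) (isPGroup_opOf p B)
      (hKB.trans (normalizer_le_normalizer_opOf p B))
    have hVB : ∀ z, z ∈ V → z ∈ B → z ∈ W := by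
      intro z hz1 hz2
      refine hopB (le_opOf (V := V ⊓ B) inf_le_right (hVp.to_le inf_le_left) ?_ ⟨hz1, hz2⟩)
      intro b hb
      rw [mem_normalizer_iff]
      intro x
      simp only [mem_inf]
      rw [mem_normalizer_iff.mp (hVn (hBD hb)) x, mem_normalizer_iff.mp (le_normalizer hb) x]
    let C : Subgroup G :=
      { carrier := {k | k ∈ K ∧ ∀ b ∈ B, k * b * k⁻¹ * b⁻¹ ∈ W}
        one_mem' := ⟨one_mem _, fun b _ => by simp [one_mem]⟩
        mul_mem' := by
          rintro k l ⟨hk, hk'⟩ ⟨hl, hl'⟩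
          refine ⟨mul_mem hk hl, fun b hb => ?_⟩
          have h1 := (mem_normalizer_iff.mp (hKW hk) _).mp (hl' b hb)
          have := mul_mem h1 (hk' b hb)
          convert this using 1
          group
        inv_mem' := by
          rintro k ⟨hk, hk'⟩
          refine ⟨inv_mem hk, fun b hb => ?_⟩
          have := (mem_normalizer_iff.mp (hKW (inv_mem hk)) _).mp (inv_mem (hk' b hb))
          convert this using 1
          group }
    have hCK : K ≤ normalizer (C : Set G) := by
      have key : ∀ n ∈ K, ∀ k ∈ C, n * k * n⁻¹ ∈ C := by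
        rintro n hn k ⟨hk, hk'⟩
        refine ⟨mul_mem (mul_mem hn hk) (inv_mem hn), fun b hb => ?_⟩
        have hb' : n⁻¹ * b * n ∈ B := by
          have := (mem_normalizer_iff.mp (hKB (inv_mem hn)) b).mp hb
          rwa [inv_inv] at this
        have := (mem_normalizer_iff.mp (hKW hn) _).mp (hk' _ hb')
        convert this using 1
        group
      intro n hn
      rw [mem_normalizer_iff]
      refine fun k => ⟨key n hn k, fun hk => ?_⟩
      have := key n⁻¹ (inv_mem hn) _ hk
      simpa [mul_assoc] using this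
    have hCH : C ≤ H := by
      rintro k ⟨hk, hk'⟩
      rw [← hNR]
      refine hgen fun x hx hord => ?_
      have hB : k * x * k⁻¹ ∈ B := (mem_normalizer_iff.mp (hKB hk) x).mp (hRB hx)
      have he : k * x * k⁻¹ = x * (x⁻¹ * (k * x * k⁻¹ * x⁻¹) * x) := by group
      have hmem : x⁻¹ * (k * x * k⁻¹ * x⁻¹) * x ∈ W := by
        have := (mem_normalizer_iff.mp (inv_mem (hKW (hBK (hRB hx)))) _).mp (hk' x (hRB hx))
        rwa [inv_inv] at this
      rw [he] at hB ⊢
      refine hsplit x hx _ hmem hB ?_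
      rw [← he, ← MulAut.conj_apply, MulEquiv.orderOf_eq]
      exact hord
    intro v hv
    refine hVB v hv (le_core1 (fun k (hk : k ∈ C) => And.left hk) hCH hCK ⟨(hV hv).2, fun b hb => ?_⟩)
    have hcom : v * b * v⁻¹ * b⁻¹ ∈ V := by
      have := mul_mem hv ((mem_normalizer_iff.mp (hVn (hBD hb)) _).mp (inv_mem hv))
      convert this using 1
      group
    exact hVB _ hcom (mul_mem ((mem_normalizer_iff.mp (hKB (hV hv).2) b).mp hb) (inv_mem hb))
  have hUK : U ⊓ K ≤ W := by
    refine hsub _ (inf_le_inf_right K hUH) (hUp.to_le inf_le_left) fun n hn => ?_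
    rw [mem_normalizer_iff]
    intro x
    simp only [mem_inf]
    rw [mem_normalizer_iff.mp (le_normalizer_opOf p H hn.1) x,
      mem_normalizer_iff.mp (le_normalizer hn.2) x]
  obtain ⟨g, hg⟩ := h.conj
  have hWU : W = U.map (MulAut.conj g).toMonoidHom := by
    rw [hUdef, opOf_map_conj, ← hg]
  have hcard : Nat.card W = Nat.card U := by
    rw [hWU, Subgroup.card_map_of_injective (MulAut.conj g).injective]
  have hW0 : W ≠ ⊥ := fun e => hU (Subgroup.card_eq_one.mp (by rw [← hcard, e, Subgroup.card_bot]))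
  have hNW : normalizer (W : Set G) = K := h.symm.normalizer_eq hWK hW0 hKW
  have hUW : U ≤ W := le_of_inf_normalizer_le hWp hUp (hWH.trans (le_normalizer_opOf p H))
    (hNW.symm ▸ hUK)
  have heq : U = W := Subgroup.eq_of_le_of_card_ge hUW hcard.le
  exact hU (h.eq_bot_of_common hUH (le_normalizer_opOf p H) (heq ▸ hKW))

/-- A component of `H` lies in a given subnormal subgroup of `H` or centralizes it. -/
theorem component_le_or_commute {L X : Subgroup G} (hL : Cfsg.IsComponentOf L H) (hX : X ≤ H)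
    (hXs : (X.subgroupOf H).IsSubnormal) : L ≤ X ∨ ⁅L, X⁆ = ⊥ := by
  rcases Cfsg.Agent.H51.component_le_or_commute_of_subnormal hL.2 hXs with hle | hc
  · have := Subgroup.map_mono (f := H.subtype) hle
    rw [map_subgroupOf_eq_of_le hL.1, map_subgroupOf_eq_of_le hX] at this
    exact Or.inl this
  · have := congrArg (Subgroup.map H.subtype) hc
    rw [map_commutator, map_subgroupOf_eq_of_le hL.1, map_subgroupOf_eq_of_le hX,
      Subgroup.map_bot] at this
    exact Or.inr this

/-- Components of subnormal subgroups, upwards. -/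
theorem componentOf_of_subnormal {L X M : Subgroup G} (hL : Cfsg.IsComponentOf L X) (hX : X ≤ M)
    (hXs : (X.subgroupOf M).IsSubnormal) : Cfsg.IsComponentOf L M := by
  refine ⟨hL.1.trans hX, ?_⟩
  have h1 := (Cfsg.Agent.H51.component_subgroup_iff hXs _).mp
    (Cfsg.Agent.H51.component_map_equiv hL.2 (subgroupOfEquivOfLe hX).symm)
  convert h1 using 1
  ext x
  constructor
  · intro hx
    exact ⟨⟨x, hL.1 hx⟩, ⟨⟨(x : G), hL.1 hx⟩, hx, rfl⟩, rfl⟩
  · rintro ⟨y, ⟨z, hz, rfl⟩, rfl⟩
    exact hz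

/-- Components, downwards. -/
theorem componentOf_of_le {L X M : Subgroup G} (hL : Cfsg.IsComponentOf L M) (hLX : L ≤ X)
    (hX : X ≤ M) : Cfsg.IsComponentOf L X := by
  refine ⟨hLX, ?_⟩
  have h1 := Cfsg.Agent.H51.component_map_equiv (Cfsg.Agent.H51.component_subgroupOf hL.2
    (show L.subgroupOf M ≤ X.subgroupOf M from comap_mono hLX)) (subgroupOfEquivOfLe hX)
  convert h1 using 1
  ext x
  constructor
  · intro hx
    exact ⟨⟨⟨(x : G), hX x.2⟩, x.2⟩, hx, rfl⟩
  · rintro ⟨y, hy, rfl⟩
    exact hy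

theorem componentOf_map_conj {L : Subgroup G} (hL : Cfsg.IsComponentOf L H) {x : G} (hx : x ∈ H) :
    Cfsg.IsComponentOf (L.map (MulAut.conj x).toMonoidHom) H := by
  have hle : L.map (MulAut.conj x).toMonoidHom ≤ H := by
    rintro _ ⟨y, hy, rfl⟩
    exact mul_mem (mul_mem hx (hL.1 hy)) (inv_mem hx)
  refine ⟨hle, ?_⟩
  have h1 := Cfsg.Agent.H51.component_map_conj hL.2 ⟨x, hx⟩
  convert h1 using 1
  ext z
  constructor
  · rintro ⟨y, hy, hyz⟩
    exact ⟨⟨y, hL.1 hy⟩, hy, Subtype.ext hyz⟩
  · rintro ⟨y, hy, rfl⟩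
    exact ⟨(y : G), hy, rfl⟩

/-- A subgroup of the first core normalized by it is subnormal in `H`. -/
theorem subnormal_of_le_core1 {X : Subgroup G} (hX : X ≤ core1 H K)
    (hn : core1 H K ≤ normalizer (X : Set G)) : (X.subgroupOf H).IsSubnormal := by
  have hA : (core1 H K).subgroupOf H |>.Normal :=
    (normal_subgroupOf_iff_le_normalizer (inCore_le_left _ _)).mpr (le_normalizer_inCore _ _)
  refine .step _ _ (comap_mono hX) hA.isSubnormal ?_
  refine (normal_subgroupOf_iff_le_normalizer (comap_mono hX)).mpr ?_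
  intro y hy
  rw [mem_normalizer_iff]
  intro z
  exact mem_normalizer_iff.mp (hn hy) (z : G)

theorem componentOf_of_componentOf (h : IsPair H K) (h1 : core2 H K ≠ ⊥) (h2 : core2 K H ≠ ⊥)
    {L : Subgroup G} (hL : Cfsg.IsComponentOf L H) : Cfsg.IsComponentOf L K := by
  have hX : core2 K H ≤ core1 H K := (core2_le K H).trans inf_le_right
  have hAD : core1 H K ≤ H ⊓ K := core1_le H K
  have hKX : K ≤ normalizer (core2 K H : Set G) := le_normalizer_inCore _ _
  have hLK : L ≤ K := by
    rcases component_le_or_commute hL (hX.trans (hAD.trans inf_le_left))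
      (subnormal_of_le_core1 hX ((hAD.trans inf_le_right).trans hKX)) with hle | hc
    · exact hle.trans (inCore_le_left _ _)
    · rw [← h.symm.normalizer_eq (inCore_le_left _ _) h2 hKX]
      exact (commutator_eq_bot_iff_le_centralizer.mp hc).trans (centralizer_le_normalizer _)
  have hBD : core1 K H ≤ H ⊓ K := (core1_le K H).trans (by rw [inf_comm])
  have hKB : K ≤ normalizer (core1 K H : Set G) := le_normalizer_inCore _ _
  have hLD : Cfsg.IsComponentOf L (H ⊓ K) := componentOf_of_le hL (le_inf hL.1 hLK) inf_le_left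
  have hBnD : ((core1 K H).subgroupOf (H ⊓ K)).Normal :=
    (normal_subgroupOf_iff_le_normalizer hBD).mpr (inf_le_right.trans hKB)
  have hup : L ≤ core1 K H → Cfsg.IsComponentOf L K := fun hle =>
    componentOf_of_subnormal (componentOf_of_le hLD hle hBD) (inCore_le_left _ _)
      ((normal_subgroupOf_iff_le_normalizer (inCore_le_left _ _)).mpr hKB).isSubnormal
  rcases component_le_or_commute hLD hBD hBnD.isSubnormal with hle | hc
  · exact hup hle
  · exfalso
    let C : Subgroup G := K ⊓ centralizer (core1 K H : Set G)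
    have hCH : C ≤ H := by
      rw [← h.normalizer_eq (inCore_le_left _ _) h1 (le_normalizer_inCore _ _)]
      exact inf_le_right.trans ((centralizer_le
        (show (core2 H K : Set G) ⊆ core1 K H from (core2_le H K).trans inf_le_right)).trans
          (centralizer_le_normalizer _))
    have hCn : K ≤ normalizer (C : Set G) := by
      intro k hk
      have hk' := mem_normalizer_iff.mp (hKB hk)
      have key : ∀ {n : G}, n ∈ K → ∀ z, z ∈ C → n * z * n⁻¹ ∈ C := by
        intro n hn z hz
        refine ⟨K.mul_mem (K.mul_mem hn hz.1) (K.inv_mem hn), mem_centralizer_iff.mpr fun b hb => ?_⟩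
        have hb' : n⁻¹ * b * n ∈ core1 K H := by
          have := (mem_normalizer_iff.mp (hKB (inv_mem hn)) b).mp hb
          rwa [inv_inv] at this
        have := mem_centralizer_iff.mp hz.2 _ hb'
        calc b * (n * z * n⁻¹) = n * ((n⁻¹ * b * n) * z) * n⁻¹ := by group
          _ = n * (z * (n⁻¹ * b * n)) * n⁻¹ := by rw [this]
          _ = n * z * n⁻¹ * b := by group
      rw [mem_normalizer_iff]
      refine fun z => ⟨key hk z, fun hz => ?_⟩
      have := key (inv_mem hk) _ hz
      simpa [mul_assoc] using this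
    have hLB : L ≤ core1 K H :=
      (le_inf hLK (commutator_eq_bot_iff_le_centralizer.mp hc)).trans
        (le_core1 inf_le_left hCH hCn)
    have hLL : ⁅L, L⁆ = ⊥ := le_bot_iff.mp ((commutator_mono le_rfl hLB).trans hc.le)
    have hperf := congrArg (Subgroup.map H.subtype) (Cfsg.Agent.H51.component_commutator_self hL.2)
    rw [map_commutator, map_subgroupOf_eq_of_le hL.1, hLL] at hperf
    exact Cfsg.Agent.H51.component_ne_bot hL.2 (by rw [← hperf, bot_subgroupOf])

/-- There are no components. -/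
theorem layer_eq_bot (h : IsPair H K) (h1 : core2 H K ≠ ⊥) (h2 : core2 K H ≠ ⊥) :
    Cfsg.layer H = ⊥ := by
  set S := {L : Subgroup G | Cfsg.IsComponentOf L H}
  have hS : ∀ L, L ∈ S ↔ Cfsg.IsComponentOf L K := fun L =>
    ⟨h.componentOf_of_componentOf h1 h2, h.symm.componentOf_of_componentOf h2 h1⟩
  have hn : ∀ M : Subgroup G, (∀ L ∈ S, ∀ x ∈ M, L.map (MulAut.conj x).toMonoidHom ∈ S) →
      M ≤ normalizer ((sSup S : Subgroup G) : Set G) := by
    intro M hM x hx
    have key : ∀ n ∈ M, ∀ z ∈ sSup S, n * z * n⁻¹ ∈ sSup S := by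
      intro n hn
      have : sSup S ≤ (sSup S).comap (MulAut.conj n).toMonoidHom :=
        sSup_le fun L hL => map_le_iff_le_comap.mp (le_sSup (hM L hL n hn))
      exact fun z hz => this hz
    rw [mem_normalizer_iff]
    refine fun z => ⟨key x hx z, fun hz => ?_⟩
    have := key x⁻¹ (inv_mem hx) _ hz
    simpa [mul_assoc] using this
  have hbot : sSup S = ⊥ := h.eq_bot_of_common (sSup_le fun L hL => hL.1)
    (hn H fun L hL x hx => componentOf_map_conj hL hx)
    (hn K fun L hL x hx => (hS _).mpr (componentOf_map_conj ((hS L).mp hL) hx))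
  refine le_bot_iff.mp (sSup_le fun L hL => ?_)
  have hmem : L.map H.subtype ∈ S := ⟨map_subtype_le L, by
    rw [subgroupOf, comap_map_eq_self_of_injective H.subtype_injective]; exact hL⟩
  have := (le_sSup hmem).trans hbot.le
  rwa [← Subgroup.map_bot H.subtype, map_le_map_iff_of_injective H.subtype_injective] at this

theorem prime_eq (h : IsPair H K) (h1 : core2 H K ≠ ⊥) {p q : ℕ} (hp : p.Prime) (hq : q.Prime)
    (hP : opOf p H ≠ ⊥) (hQ : IsPGroup q (core2 H K)) : p = q := by
  by_contra hne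
  haveI : Fact p.Prime := ⟨hp⟩
  haveI : Fact q.Prime := ⟨hq⟩
  exact h1 (disjoint_self.mp ((h.isPGroup_core2 hp hP).disjoint_of_ne p q hne _ _ hQ))

theorem exists_opOf_ne_bot (h : IsPair H K) (h1 : core2 H K ≠ ⊥) (h2 : core2 K H ≠ ⊥) :
    ∃ p : ℕ, p.Prime ∧ opOf p H ≠ ⊥ ∧
      Cfsg.generalizedFittingSubgroup H = Cfsg.pCore p H := by
  have hlay := h.layer_eq_bot h1 h2
  have hF := Cfsg.Agent.H51.generalizedFitting_eq_fitting_of_layer_eq_bot hlay
  have hne : Cfsg.fittingSubgroup H ≠ ⊥ := by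
    intro e
    have hc := Cfsg.Agent.H51.centralizer_generalizedFitting_le H
    rw [hF, e, Subgroup.coe_bot] at hc
    apply h1
    rw [eq_bot_iff]
    intro x hx
    have hx' : (⟨x, inCore_le_left _ _ hx⟩ : H) ∈ (⊥ : Subgroup H) :=
      hc (mem_centralizer_iff.mpr fun y hy => by rw [Set.mem_singleton_iff.mp hy]; simp)
    exact Subgroup.mem_bot.mpr (congrArg Subtype.val (Subgroup.mem_bot.mp hx'))
  have hex : ∃ p : ℕ, p.Prime ∧ Cfsg.pCore p H ≠ ⊥ := by
    by_contra hall
    push_neg at hall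
    apply hne
    rw [Cfsg.Agent.H51.fittingSubgroup_eq_iSup_pCore, iSup_eq_bot]
    exact fun q => hall q (Nat.prime_of_mem_primeFactors q.2)
  obtain ⟨p, hp, hpc⟩ := hex
  haveI : Fact p.Prime := ⟨hp⟩
  have hU : opOf p H ≠ ⊥ := fun e =>
    hpc ((Subgroup.map_eq_bot_iff_of_injective _ H.subtype_injective).mp e)
  refine ⟨p, hp, hU, ?_⟩
  rw [hF]
  refine le_antisymm ?_ (Cfsg.Agent.H51.pCore_le_fittingSubgroup p H)
  rw [Cfsg.Agent.H51.fittingSubgroup_eq_iSup_pCore]
  refine iSup_le fun q => ?_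
  have hq := Nat.prime_of_mem_primeFactors q.2
  by_cases e : Cfsg.pCore (q : ℕ) H = ⊥
  · rw [e]; exact bot_le
  · have hQ : opOf q H ≠ ⊥ := fun e' =>
      e ((Subgroup.map_eq_bot_iff_of_injective _ H.subtype_injective).mp e')
    rw [h.prime_eq h1 hq hp hQ (h.isPGroup_core2 hp hU)]

/-- **Thompson–Wielandt**: non-trivial second cores are `p`-groups and `F* = O_p`. -/
theorem thompsonWielandt (h : IsPair H K) (h1 : core2 H K ≠ ⊥) (h2 : core2 K H ≠ ⊥) :
    ∃ p : ℕ, p.Prime ∧ IsPGroup p (core2 H K) ∧ IsPGroup p (core2 K H) ∧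
      Cfsg.generalizedFittingSubgroup H = Cfsg.pCore p H ∧
      Cfsg.generalizedFittingSubgroup K = Cfsg.pCore p K := by
  obtain ⟨p, hp, hU, hFH⟩ := h.exists_opOf_ne_bot h1 h2
  obtain ⟨q, hq, hV, hFK⟩ := h.symm.exists_opOf_ne_bot h2 h1
  obtain ⟨g, hg⟩ := h.conj
  have hpK : opOf p K ≠ ⊥ := by
    rw [hg, ← opOf_map_conj]
    exact fun e => hU ((Subgroup.map_eq_bot_iff_of_injective _ (MulAut.conj g).injective).mp e)
  have := h.symm.prime_eq h2 hq hp hV (h.symm.isPGroup_core2 hp hpK)
  subst this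
  exact ⟨q, hq, h.isPGroup_core2 hq hU, h.symm.isPGroup_core2 hq hpK, hFH, hFK⟩

theorem card_eq (h : IsPair H K) : Nat.card H = Nat.card K := by
  obtain ⟨g, hg⟩ := h.conj
  rw [hg, Subgroup.card_map_of_injective (MulAut.conj g).injective]

theorem relIndex_eq (h : IsPair H K) : K.relIndex H = H.relIndex K := by
  have hD : 0 < Nat.card ↥(H ⊓ K) := Nat.card_pos
  have e1 := card_mul_index ((H ⊓ K).subgroupOf H)
  have e2 := card_mul_index ((H ⊓ K).subgroupOf K)
  rw [Nat.card_congr (subgroupOfEquivOfLe (inf_le_left : H ⊓ K ≤ H)).toEquiv] at e1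
  rw [Nat.card_congr (subgroupOfEquivOfLe (inf_le_right : H ⊓ K ≤ K)).toEquiv] at e2
  rw [← inf_relIndex_left H K, ← inf_relIndex_right H K]
  exact Nat.eq_of_mul_eq_mul_left hD (e1.trans (h.card_eq.trans e2.symm))

theorem index_core1_dvd (H K : Subgroup G) :
    ((core1 H K).subgroupOf H).index ∣ (K.relIndex H).factorial := by
  rw [core1, inCore_subgroupOf]
  refine (normalCore_index_dvd_factorial _).trans (dvd_of_eq ?_)
  rw [← relIndex, inf_relIndex_left]

theorem index_core2_dvd (h : IsPair H K) {d : ℕ} (hd : K.relIndex H = d) :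
    ((core2 H K).subgroupOf H).index ∣ d.factorial * ((d - 1).factorial) ^ d := by
  have hd' : H.relIndex K = d := h.relIndex_eq.symm.trans hd
  have hA := inCore_subgroupOf H (H ⊓ K)
  rw [core2, inCore_subgroupOf, show (core1 H K ⊓ core1 K H).subgroupOf H =
    (core1 H K).subgroupOf H ⊓ (core1 K H).subgroupOf H from comap_inf _ _ _]
  have hAn : ((core1 H K).subgroupOf H).Normal := by
    rw [core1, hA]; exact normalCore_normal _
  refine (normalCore_inf_index_dvd (hA := hAn) ((core1 H K).subgroupOf H) ((core1 K H).subgroupOf H) ((H ⊓ K).subgroupOf H)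
    (comap_mono (core1_le H K)) ?_).trans ?_
  · intro x hx
    rw [mem_normalizer_iff]
    intro z
    exact mem_normalizer_iff.mp (le_normalizer_inCore K (K ⊓ H) (mem_subgroupOf.mp hx).2) (z : G)
  · have hidx : ((H ⊓ K).subgroupOf H).index = d := by rw [← relIndex, inf_relIndex_left, hd]
    rw [hidx, relIndex_subgroupOf (show core1 H K ≤ H from inCore_le_left H (H ⊓ K))]
    refine Nat.mul_dvd_mul (hd ▸ index_core1_dvd H K) (pow_dvd_pow_of_dvd ?_ _)
    have hBD : core1 K H ≤ H ⊓ K := (core1_le K H).trans (by rw [inf_comm])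
    haveI : ((core1 K H).subgroupOf (H ⊓ K)).Normal :=
      (normal_subgroupOf_iff_le_normalizer hBD).mpr
        (inf_le_right.trans (le_normalizer_inCore _ _))
    have h1 : (core1 K H).relIndex (core1 H K) ∣ (core1 K H).relIndex (H ⊓ K) := by
      rw [← relIndex_subgroupOf (core1_le H K)]
      exact relIndex_dvd_index_of_normal _ _
    have h2 : (core1 K H).relIndex (H ⊓ K) * d ∣ d.factorial := by
      have e := relIndex_mul_relIndex (core1 K H) (H ⊓ K) K hBD inf_le_right
      rw [inf_relIndex_right, hd'] at e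
      rw [e]
      exact hd' ▸ index_core1_dvd K H
    have hd0 : d ≠ 0 := hd ▸ (index_ne_zero_of_finite (H := K.subgroupOf H))
    obtain ⟨c, rfl⟩ := Nat.exists_eq_succ_of_ne_zero hd0
    rw [Nat.factorial_succ, mul_comm (c + 1)] at h2
    exact h1.trans (Nat.dvd_of_mul_dvd_mul_right (Nat.succ_pos c) h2)

/-- If the second cores are not both trivial, `|H|` is bounded. -/
theorem card_dvd_of_core2_eq_bot (h : IsPair H K) {d : ℕ} (hd : K.relIndex H = d)
    (hbot : core2 H K = ⊥ ∨ core2 K H = ⊥) :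
    Nat.card H ∣ d.factorial * ((d - 1).factorial) ^ d := by
  rcases hbot with e | e
  · simpa [e] using h.index_core2_dvd hd
  · rw [h.card_eq]
    simpa [e] using h.symm.index_core2_dvd (h.relIndex_eq.symm.trans hd)

/-- If `O_q(H ∩ K)` lies in the first core, it is trivial. -/
theorem opOf_inf_eq_bot (h : IsPair H K) {q : ℕ} (hq : q.Prime)
    (hle : opOf q (H ⊓ K) ≤ core1 H K) : opOf q (H ⊓ K) = ⊥ := by
  haveI : Fact q.Prime := ⟨hq⟩
  set N := opOf q (H ⊓ K) with hNdef
  by_contra hne
  have hAD : core1 H K ≤ H ⊓ K := core1_le H K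
  have hHA : H ≤ normalizer (core1 H K : Set G) := le_normalizer_inCore _ _
  have hDN : H ⊓ K ≤ normalizer (N : Set G) := le_normalizer_opOf _ _
  have hNA : N = opOf q (core1 H K) :=
    le_antisymm (le_opOf hle (isPGroup_opOf _ _) (hAD.trans hDN))
      (le_opOf ((opOf_le _ _).trans hAD) (isPGroup_opOf _ _)
        ((inf_le_left.trans hHA).trans (normalizer_le_normalizer_opOf q _)))
  have hNH : N ≤ H := hle.trans (inCore_le_left _ _)
  have hHN : H ≤ normalizer (N : Set G) := hNA ▸ hHA.trans (normalizer_le_normalizer_opOf q _)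
  have hNU : N ≤ opOf q H := le_opOf hNH (isPGroup_opOf _ _) hHN
  have hNn : normalizer (N : Set G) = H := h.normalizer_eq hNH hne hHN
  have hKW : K ≤ normalizer (opOf q K : Set G) := le_normalizer_opOf q K
  have hWN : opOf q K ≤ N := by
    refine le_of_inf_normalizer_le (isPGroup_opOf _ _) (isPGroup_opOf _ _)
      (((opOf_le _ _).trans inf_le_right).trans hKW) ?_
    rw [hNn, inf_comm]
    refine le_opOf (inf_le_inf_left H (opOf_le q K)) ((isPGroup_opOf q K).to_le inf_le_right) ?_
    intro n hn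
    rw [mem_normalizer_iff]
    intro x
    simp only [mem_inf]
    rw [mem_normalizer_iff.mp (hKW hn.2) x, mem_normalizer_iff.mp (le_normalizer hn.1) x]
  obtain ⟨g, hg⟩ := h.conj
  have hcard : Nat.card ↥(opOf q K) = Nat.card ↥(opOf q H) := by
    rw [hg, ← opOf_map_conj, Subgroup.card_map_of_injective (MulAut.conj g).injective]
  have heq : opOf q K = opOf q H := Subgroup.eq_of_le_of_card_ge (hWN.trans hNU) hcard.ge
  have hU : opOf q H = ⊥ :=
    h.eq_bot_of_common (opOf_le q H) (le_normalizer_opOf q H) (heq ▸ hKW)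
  exact hne (le_bot_iff.mp (hU ▸ hNU))

end Finite

end IsPair

/-- `F*` of the first core. -/
theorem genFitting_core1 [Finite G] {p : ℕ} [Fact p.Prime] {H K : Subgroup G}
    (hF : Cfsg.generalizedFittingSubgroup H = Cfsg.pCore p H) :
    Cfsg.generalizedFittingSubgroup ↥(core1 H K) = Cfsg.pCore p ↥(core1 H K) := by
  have hA : ((core1 H K).subgroupOf H).Normal := by
    rw [core1, inCore_subgroupOf]; exact normalCore_normal _
  set B := (core1 H K).subgroupOf H with hB
  have e : B ≃* ↥(core1 H K) := subgroupOfEquivOfLe (inCore_le_left _ _)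
  have key : Cfsg.generalizedFittingSubgroup B = Cfsg.pCore p B := by
    refine le_antisymm ?_ ((Cfsg.Agent.H51.pCore_le_fittingSubgroup p B).trans le_sup_right)
    refine Cfsg.Agent.H51.le_pCore (Cfsg.Agent.H51.generalizedFittingSubgroup_normal B) ?_
    have hp : IsPGroup p ((Cfsg.generalizedFittingSubgroup B).map B.subtype) := by
      rw [Cfsg.Agent.H51.generalizedFitting_map_subtype_eq hA.isSubnormal, hF]
      exact (Cfsg.Agent.H51.pCore_isPGroup p H).to_le inf_le_left
    exact hp.of_equiv (equivMapOfInjective _ _ B.subtype_injective).symm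
  rw [← Cfsg.Agent.H51.generalizedFittingSubgroup_map_equiv e, key,
    Cfsg.Agent.H51.pCore_map_equiv]

section Action

variable {Ω : Type*} [MulAction G Ω]

theorem relIndex_stabilizer (a b : Ω) :
    (MulAction.stabilizer G b).relIndex (MulAction.stabilizer G a) =
      Nat.card (MulAction.orbit (MulAction.stabilizer G a) b) := by
  rw [relIndex, show (MulAction.stabilizer G b).subgroupOf (MulAction.stabilizer G a) =
    MulAction.stabilizer (MulAction.stabilizer G a) b from rfl, MulAction.index_stabilizer,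
    Nat.card_coe_set_eq]

/-- Stabilizers of two points of a primitive group form a pair. -/
theorem isPair_stabilizer [FaithfulSMul G Ω] (hprim : MulAction.IsPreprimitive G Ω) {a b : Ω}
    {d : ℕ} (hd : Nat.card (MulAction.orbit (MulAction.stabilizer G a) b) = d) (h2 : 2 ≤ d) :
    IsPair (MulAction.stabilizer G a) (MulAction.stabilizer G b) ∧
      (MulAction.stabilizer G b).relIndex (MulAction.stabilizer G a) = d := by
  have hrel := (relIndex_stabilizer (G := G) a b).trans hd
  have hne : MulAction.stabilizer G a ≠ MulAction.stabilizer G b := by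
    intro e
    rw [e, relIndex_self] at hrel
    omega
  haveI : Nontrivial Ω := ⟨a, b, fun e => hne (e ▸ rfl)⟩
  have hcore : ∀ c : Ω, (MulAction.stabilizer G c).normalCore = ⊥ := by
    intro c
    rw [eq_bot_iff]
    intro n hn
    refine Subgroup.mem_bot.mpr (eq_of_smul_eq_smul (α := Ω) fun x => ?_)
    obtain ⟨g, rfl⟩ := MulAction.exists_smul_eq G c x
    have := MulAction.mem_stabilizer_iff.mp (hn g⁻¹)
    rw [inv_inv, mul_smul, mul_smul, inv_smul_eq_iff] at this
    rw [one_smul, this]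
  obtain ⟨g, hg⟩ := MulAction.exists_smul_eq G a b
  refine ⟨⟨hprim.isCoatom_stabilizer_of_isPreprimitive (G := G) a,
    hprim.isCoatom_stabilizer_of_isPreprimitive (G := G) b, hne, hcore a, hcore b, g, ?_⟩, hrel⟩
  rw [← hg, MulAction.stabilizer_smul_eq_stabilizer_map_conj]

end Action

end Cfsg.Agent.H81.TW
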