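import Mathlib

/-! For `m ≥ 17` there are primes `p < q` in `(m/2, m]` with `p + 3 ≤ q`.
The large case follows Erdős's proof of Bertrand's postulate, allowing two primes in `(n, 2n]`. -/

set_option autoImplicit false

namespace Cfsg.Agent.H81

open Real in
theorem twoPrimes_real_ineq {x : ℝ} (x_large : (648 : ℝ) ≤ x) :
    x * (2 * x) ^ (√(2 * x) + 2) * 4 ^ (2 * x / 3) ≤ 4 ^ x := by
  let f : ℝ → ℝ := fun x => (log x + √(2 * x) * log (2 * x)) + (2 * log 2 + 2 * log x) - log 4 / 3 * x
  have hf' : ∀ x, 0 < x → 0 < x * (2 * x) ^ (√(2 * x) + 2) / 4 ^ (x / 3) := fun x h =>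
    div_pos (mul_pos h (rpow_pos_of_pos (mul_pos two_pos h) _)) (rpow_pos_of_pos four_pos _)
  have hf : ∀ x, 0 < x → f x = log (x * (2 * x) ^ (√(2 * x) + 2) / 4 ^ (x / 3)) := by
    intro x h5
    have h6 := mul_pos (zero_lt_two' ℝ) h5
    have h7 := rpow_pos_of_pos h6 (√(2 * x) + 2)
    rw [log_div (mul_pos h5 h7).ne' (rpow_pos_of_pos four_pos _).ne', log_mul h5.ne' h7.ne',
      log_rpow h6, log_rpow zero_lt_four, log_mul two_ne_zero h5.ne']
    simp only [f, log_mul two_ne_zero h5.ne']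
    ring
  have h5 : 0 < x := lt_of_lt_of_le (by norm_num1) x_large
  rw [← div_le_one (rpow_pos_of_pos four_pos x), ← div_div_eq_mul_div, ← rpow_sub four_pos, ←
    mul_div 2 x, mul_div_left_comm, ← mul_one_sub, (by norm_num1 : (1 : ℝ) - 2 / 3 = 1 / 3),
    mul_one_div, ← log_nonpos_iff (hf' x h5).le, ← hf x h5]
  have h : ConcaveOn ℝ (Set.Ioi 0.5) f := by
    apply ConcaveOn.sub
    · apply ConcaveOn.add
      · apply ConcaveOn.add
        · exact strictConcaveOn_log_Ioi.concaveOn.subset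
            (Set.Ioi_subset_Ioi (by norm_num)) (convex_Ioi 0.5)
        convert!
          ((strictConcaveOn_sqrt_mul_log_Ioi.concaveOn.comp_linearMap ((2 : ℝ) • LinearMap.id)))
          using 1
        ext x
        simp only [Set.mem_Ioi, Set.mem_preimage, LinearMap.smul_apply,
          LinearMap.id_coe, id_eq, smul_eq_mul]
        rw [← mul_lt_mul_iff_right₀ (two_pos)]
        norm_num1
        rfl
      · exact (concaveOn_const _ (convex_Ioi 0.5)).add
          ((strictConcaveOn_log_Ioi.concaveOn.subset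
            (Set.Ioi_subset_Ioi (by norm_num)) (convex_Ioi 0.5)).smul (by norm_num : (0 : ℝ) ≤ 2))
    apply ConvexOn.smul
    · refine div_nonneg (log_nonneg (by norm_num1)) (by norm_num1)
    · exact convexOn_id (convex_Ioi (0.5 : ℝ))
  suffices ∃ x1 x2, 0.5 < x1 ∧ x1 < x2 ∧ x2 ≤ x ∧ 0 ≤ f x1 ∧ f x2 ≤ 0 by
    obtain ⟨x1, x2, h1, h2, h0, h3, h4⟩ := this
    exact (h.right_le_of_le_left'' h1 ((h1.trans h2).trans_le h0) h2 h0 (h4.trans h3)).trans h4
  refine ⟨18, 648, by norm_num1, by norm_num1, x_large, ?_, ?_⟩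
  · have : √(2 * 18 : ℝ) = 6 := (sqrt_eq_iff_mul_self_eq_of_pos (by norm_num1)).mpr (by norm_num1)
    rw [hf _ (by norm_num1), log_nonneg_iff (by positivity), this, one_le_div (by norm_num1)]
    norm_num1
  · have : √(2 * 648) = 36 :=
      (sqrt_eq_iff_mul_self_eq_of_pos (by norm_num1)).mpr (by norm_num1)
    rw [hf _ (by norm_num1), log_nonpos_iff (hf' _ (by norm_num1)).le, this,
        div_le_one (by positivity)]
    have e : (648 : ℝ) / 3 = ((216 : ℕ) : ℝ) := by norm_num
    have e' : (36 : ℝ) + 2 = ((38 : ℕ) : ℝ) := by norm_num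
    rw [e, e', rpow_natCast, rpow_natCast]
    norm_num

theorem twoPrimes_main_ineq {n : ℕ} (n_large : 648 ≤ n) :
    n * (2 * n) ^ (Nat.sqrt (2 * n) + 2) * 4 ^ (2 * n / 3) ≤ 4 ^ n := by
  rw [← @Nat.cast_le ℝ]
  simp only [Nat.cast_mul, Nat.cast_pow, ← Real.rpow_natCast, Nat.cast_ofNat, Nat.cast_add]
  refine _root_.trans ?_ (twoPrimes_real_ineq (by exact_mod_cast n_large))
  gcongr
  · have n2_pos : 1 ≤ 2 * n := by omega
    exact mod_cast n2_pos
  · exact_mod_cast Real.nat_sqrt_le_real_sqrt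
  · norm_num1
  · exact Nat.cast_div_le.trans (by norm_cast)

/-- The set of primes in `(n, 2n]`. -/
def primesAbove (n : ℕ) : Finset ℕ := (Finset.Ioc n (2 * n)).filter Nat.Prime

theorem three_le_card_primesAbove {n : ℕ} (hn : 648 ≤ n) : 3 ≤ (primesAbove n).card := by
  by_contra hcard
  have n2_pos : 1 ≤ 2 * n := by omega
  let f x := x ^ n.centralBinom.factorization x
  have hf : ∀ p, f p ≤ 2 * n := fun p => Nat.pow_factorization_choose_le (by omega)
  have hsplit : n.centralBinom =
      (∏ p ∈ Finset.range (2 * n / 3 + 1), f p) * ∏ p ∈ Finset.Ico (2 * n / 3 + 1) (2 * n + 1), f p := by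
    rw [Finset.prod_range_mul_prod_Ico f (by omega)]
    exact (n.prod_pow_factorization_centralBinom).symm
  have hsmall : ∏ p ∈ Finset.range (2 * n / 3 + 1), f p ≤
      (2 * n) ^ Nat.sqrt (2 * n) * 4 ^ (2 * n / 3) := by
    let S := {p ∈ Finset.range (2 * n / 3 + 1) | Nat.Prime p}
    have : ∏ x ∈ S, f x = ∏ x ∈ Finset.range (2 * n / 3 + 1), f x := by
      refine Finset.prod_filter_of_ne fun p _ h => ?_
      contrapose h; dsimp only [f]
      rw [Nat.factorization_eq_zero_of_not_prime n.centralBinom h, _root_.pow_zero]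
    rw [← this, ← Finset.prod_filter_mul_prod_filter_not S (· ≤ Nat.sqrt (2 * n))]
    apply mul_le_mul'
    · refine (Finset.prod_le_prod' fun p _ => hf p).trans ?_
      have : (Finset.Icc 1 (Nat.sqrt (2 * n))).card = Nat.sqrt (2 * n) := by
        rw [Nat.card_Icc, Nat.add_sub_cancel]
      rw [Finset.prod_const]
      refine pow_right_mono₀ n2_pos ((Finset.card_le_card fun x hx => ?_).trans this.le)
      obtain ⟨h1, h2⟩ := Finset.mem_filter.1 hx
      exact Finset.mem_Icc.mpr ⟨(Finset.mem_filter.1 h1).2.one_lt.le, h2⟩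
    · refine le_trans ?_ (primorial_le_four_pow (2 * n / 3))
      refine (Finset.prod_le_prod' fun p hp => (?_ : f p ≤ p)).trans ?_
      · obtain ⟨h1, h2⟩ := Finset.mem_filter.1 hp
        refine (pow_right_mono₀ (Finset.mem_filter.1 h1).2.one_lt.le ?_).trans (pow_one p).le
        exact Nat.factorization_choose_le_one (Nat.sqrt_lt'.mp <| not_le.1 h2)
      refine Finset.prod_le_prod_of_subset_of_one_le' (Finset.filter_subset _ _) ?_
      exact fun p hp _ => (Finset.mem_filter.1 hp).2.one_lt.le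
  have hbig : ∏ p ∈ Finset.Ico (2 * n / 3 + 1) (2 * n + 1), f p ≤ (2 * n) ^ 2 := by
    rw [← Finset.prod_subset (s₁ := primesAbove n) (f := f)]
    · refine (Finset.prod_le_prod' fun p _ => hf p).trans ?_
      rw [Finset.prod_const]
      exact pow_right_mono₀ n2_pos (by omega)
    · intro p hp
      simp only [primesAbove, Finset.mem_filter, Finset.mem_Ioc] at hp
      simp only [Finset.mem_Ico]
      omega
    · intro p hp hp'
      simp only [primesAbove, Finset.mem_filter, Finset.mem_Ioc, not_and] at hp'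
      simp only [Finset.mem_Ico] at hp
      dsimp only [f]
      by_cases h : p.Prime
      · have hpn : p ≤ n := by
          by_contra hpn
          exact hp' ⟨by omega, by omega⟩ h
        rw [Nat.factorization_centralBinom_of_two_mul_self_lt_three_mul (by omega) hpn (by omega),
          Nat.pow_zero]
      · rw [Nat.factorization_eq_zero_of_not_prime n.centralBinom h, Nat.pow_zero]
  have key := Nat.four_pow_lt_mul_centralBinom n (by omega)
  have : n * n.centralBinom ≤ n * (2 * n) ^ (Nat.sqrt (2 * n) + 2) * 4 ^ (2 * n / 3) := by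
    calc n * n.centralBinom ≤ n * ((2 * n) ^ Nat.sqrt (2 * n) * 4 ^ (2 * n / 3) * (2 * n) ^ 2) :=
          Nat.mul_le_mul_left n (hsplit ▸ Nat.mul_le_mul hsmall hbig)
      _ = _ := by ring
  exact absurd (key.trans_le (this.trans (twoPrimes_main_ineq hn))) (lt_irrefl _)

theorem exists_two_primes (m : ℕ) (hm : 17 ≤ m) :
    ∃ p q : ℕ, p.Prime ∧ q.Prime ∧ m < 2 * p ∧ p + 3 ≤ q ∧ q ≤ m := by
  by_cases h : m ≤ 1295
  · rcases (show (17 ≤ m ∧ m < 22) ∨ (22 ≤ m ∧ m < 26) ∨ (26 ≤ m ∧ m < 34) ∨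
        (34 ≤ m ∧ m < 46) ∨ (46 ≤ m ∧ m < 62) ∨ (62 ≤ m ∧ m < 86) ∨
        (86 ≤ m ∧ m < 118) ∨ (118 ≤ m ∧ m < 158) ∨ (158 ≤ m ∧ m < 226) ∨
        (226 ≤ m ∧ m < 314) ∨ (314 ≤ m ∧ m < 446) ∨ (446 ≤ m ∧ m < 626) ∨
        (626 ≤ m ∧ m < 886) ∨ (886 ≤ m ∧ m < 1238) ∨ (1238 ≤ m ∧ m < 1766) by omega) with
      h | h | h | h | h | h | h | h | h | h | h | h | h | h | h
    · exact ⟨11, 17, by norm_num, by norm_num, by omega, by omega, by omega⟩
    all_goals first
      | exact ⟨13, 19, by norm_num, by norm_num, by omega, by omega, by omega⟩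
      | exact ⟨17, 23, by norm_num, by norm_num, by omega, by omega, by omega⟩
      | exact ⟨23, 29, by norm_num, by norm_num, by omega, by omega, by omega⟩
      | exact ⟨31, 43, by norm_num, by norm_num, by omega, by omega, by omega⟩
      | exact ⟨43, 59, by norm_num, by norm_num, by omega, by omega, by omega⟩
      | exact ⟨59, 79, by norm_num, by norm_num, by omega, by omega, by omega⟩
      | exact ⟨79, 113, by norm_num, by norm_num, by omega, by omega, by omega⟩
      | exact ⟨113, 157, by norm_num, by norm_num, by omega, by omega, by omega⟩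
      | exact ⟨157, 223, by norm_num, by norm_num, by omega, by omega, by omega⟩
      | exact ⟨223, 313, by norm_num, by norm_num, by omega, by omega, by omega⟩
      | exact ⟨313, 443, by norm_num, by norm_num, by omega, by omega, by omega⟩
      | exact ⟨443, 619, by norm_num, by norm_num, by omega, by omega, by omega⟩
      | exact ⟨619, 883, by norm_num, by norm_num, by omega, by omega, by omega⟩
      | exact ⟨883, 1237, by norm_num, by norm_num, by omega, by omega, by omega⟩
  · have h3 := three_le_card_primesAbove (n := m / 2) (by omega)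
    obtain ⟨a, ha, b, hb, c, hc, hab, hac, hbc⟩ := Finset.two_lt_card.1 h3
    simp only [primesAbove, Finset.mem_filter, Finset.mem_Ioc] at ha hb hc
    rcases (show a + 3 ≤ b ∨ b + 3 ≤ a ∨ a + 3 ≤ c ∨ c + 3 ≤ a ∨ b + 3 ≤ c ∨ c + 3 ≤ b ∨
        (a ≤ b + 2 ∧ b ≤ a + 2 ∧ a ≤ c + 2 ∧ c ≤ a + 2 ∧ b ≤ c + 2 ∧ c ≤ b + 2) by omega) with
      h | h | h | h | h | h | h
    · exact ⟨a, b, ha.2, hb.2, by omega, h, by omega⟩
    · exact ⟨b, a, hb.2, ha.2, by omega, h, by omega⟩
    · exact ⟨a, c, ha.2, hc.2, by omega, h, by omega⟩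
    · exact ⟨c, a, hc.2, ha.2, by omega, h, by omega⟩
    · exact ⟨b, c, hb.2, hc.2, by omega, h, by omega⟩
    · exact ⟨c, b, hc.2, hb.2, by omega, h, by omega⟩
    · exfalso
      have := ha.2.eq_two_or_odd
      have := hb.2.eq_two_or_odd
      have := hc.2.eq_two_or_odd
      omega

end Cfsg.Agent.H81
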